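import Cfsg.Agent.Lib.JankoReeMult.PSLTwo
import Cfsg.Agent.Lib.AbCentMax.Frame
import Cfsg.Agent.Lib.SLCard

/-!
`SL₂(q)`, `q` odd, has no nontrivial normal subgroup whose elements have odd order.
-/

set_option autoImplicit false
set_option linter.unusedSectionVars false
set_option linter.style.haveILetI false

namespace CfsgLib.GU2Cent

open Matrix

variable {F : Type*} [Field F] [Fintype F]

theorem sl2_odd_normal (hF : Odd (Fintype.card F)) (N : Subgroup (SpecialLinearGroup (Fin 2) F)) [hN : N.Normal]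
    (h : ∀ g ∈ N, Odd (orderOf g)) : N = ⊥ := by
  classical
  have hsq : ∀ g ∈ N, g * g = 1 → g = 1 := fun g hg e =>
    orderOf_eq_one_iff.mp (Nat.eq_one_of_dvd_coprimes (Nat.coprime_two_left.mpr (h g hg))
      (orderOf_dvd_of_pow_eq_one (show g ^ 2 = 1 by rw [pow_two, e])) dvd_rfl)
  rcases lt_or_ge 3 (Fintype.card F) with h3 | h3
  · haveI := JankoReeMult.psl_simple (F := F) h3
    let π : SpecialLinearGroup (Fin 2) F →* ProjectiveSpecialLinearGroup (Fin 2) F := QuotientGroup.mk' _
    have hsurj : Function.Surjective π := QuotientGroup.mk'_surjective _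
    haveI : (N.map π).Normal := hN.map π hsurj
    have hb : N.map π = ⊥ := (inferInstance : (N.map π).Normal).eq_bot_or_eq_top.resolve_right fun ht => by
      haveI : Fact (Nat.Prime 2) := ⟨Nat.prime_two⟩
      obtain ⟨y, hy⟩ := exists_prime_orderOf_dvd_card' 2 (AbCentMax.even_psl (F := F) hF)
      obtain ⟨g, hg, rfl⟩ : y ∈ N.map π := ht ▸ Subgroup.mem_top y
      have := (h g hg).of_dvd_nat (orderOf_map_dvd π g)
      rw [hy] at this
      exact (by decide : ¬ Odd 2) this
    refine (Subgroup.eq_bot_iff_forall _).mpr fun g hg => hsq g hg ?_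
    have hc : g ∈ Subgroup.center (SpecialLinearGroup (Fin 2) F) :=
      (QuotientGroup.eq_one_iff g).mp (Subgroup.mem_bot.mp (hb ▸ Subgroup.mem_map_of_mem π hg))
    obtain ⟨r, hr, hg'⟩ := Matrix.SpecialLinearGroup.mem_center_iff.mp hc
    apply Subtype.ext
    rw [Matrix.SpecialLinearGroup.coe_mul, Matrix.SpecialLinearGroup.coe_one, ← hg', ← map_mul, ← pow_two,
      show r ^ 2 = 1 by simpa using hr, map_one]
  have hc3 : Fintype.card F = 3 := by
    have : 1 < Fintype.card F := Fintype.one_lt_card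
    obtain ⟨k, hk⟩ := hF
    omega
  by_contra hne
  obtain ⟨g, hg, hg1⟩ := (Subgroup.ne_bot_iff_exists_ne_one.mp hne : ∃ a : N, a ≠ 1) |> fun ⟨a, ha⟩ =>
    (⟨a.1, a.2, fun e => ha (Subtype.ext e)⟩ : ∃ g, g ∈ N ∧ g ≠ 1)
  have hcard : Nat.card (SpecialLinearGroup (Fin 2) F) = 24 := by
    have h1 := SLCard.card_units_mul_card_SL (F := F) (n := 2) (by norm_num)
    rw [Matrix.card_GL_field, Fin.prod_univ_two, hc3] at h1
    simp [Nat.card_units, Nat.card_eq_fintype_card, hc3] at h1 ⊢
    omega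
  have h3' : (3 : F) = 0 := by
    have := FiniteField.cast_card_eq_zero F
    rwa [hc3] at this
  let x : SpecialLinearGroup (Fin 2) F := ⟨!![1, 1; 0, 1], by simp [Matrix.det_fin_two]⟩
  let y : SpecialLinearGroup (Fin 2) F := ⟨!![1, 0; 1, 1], by simp [Matrix.det_fin_two]⟩
  have hx : x ^ 3 = 1 := by
    rw [pow_succ, pow_two]
    ext i j
    simp only [Matrix.SpecialLinearGroup.coe_mul, Matrix.SpecialLinearGroup.coe_one]
    fin_cases i <;> fin_cases j <;> simp [x, Matrix.mul_apply, Fin.sum_univ_two]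
    linear_combination h3'
  have hy : y ^ 3 = 1 := by
    rw [pow_succ, pow_two]
    ext i j
    simp only [Matrix.SpecialLinearGroup.coe_mul, Matrix.SpecialLinearGroup.coe_one]
    fin_cases i <;> fin_cases j <;> simp [y, Matrix.mul_apply, Fin.sum_univ_two]
    linear_combination h3'
  have hN3 : Nat.card N = 3 := by
    have hd : Nat.card N ∣ 24 := hcard ▸ N.card_subgroup_dvd_card
    have hodd : ¬ 2 ∣ Nat.card N := fun h2 => by
      haveI : Fact (Nat.Prime 2) := ⟨Nat.prime_two⟩
      obtain ⟨a, ha⟩ := exists_prime_orderOf_dvd_card' 2 h2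
      have := h a.1 a.2
      rw [Subgroup.orderOf_coe, ha] at this
      exact (by decide : ¬ Odd 2) this
    have hn1 : Nat.card N ≠ 1 := fun e => hne (Subgroup.card_eq_one.mp e)
    have hd3 : Nat.card N ∣ 3 :=
      (((Nat.prime_two.coprime_iff_not_dvd.mpr hodd).pow_left 3).symm).dvd_of_dvd_mul_left (show Nat.card N ∣ 2 ^ 3 * 3 from hd)
    exact ((Nat.dvd_prime Nat.prime_three).mp hd3).resolve_left hn1
  have hmem : ∀ a : SpecialLinearGroup (Fin 2) F, a ^ 3 = 1 → a ∈ N := fun a ha => by
    haveI : Fact (Nat.Prime 3) := ⟨Nat.prime_three⟩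
    have h1 : orderOf (QuotientGroup.mk' N a) ∣ 3 :=
      orderOf_dvd_of_pow_eq_one (by rw [← map_pow, ha, map_one])
    have h2 : orderOf (QuotientGroup.mk' N a) ∣ 8 := by
      have h4 := orderOf_dvd_natCard (QuotientGroup.mk' N a)
      have h5 := N.card_mul_index
      rw [hN3, hcard] at h5
      rwa [← Subgroup.index_eq_card, show N.index = 8 by omega] at h4
    exact (QuotientGroup.eq_one_iff a).mp (orderOf_eq_one_iff.mp
      (Nat.eq_one_of_dvd_coprimes (by norm_num) h1 h2))
  have hxy := h (x * y) (mul_mem (hmem x hx) (hmem y hy))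
  have h4 : (x * y) ^ 4 = 1 := by
    rw [pow_succ, pow_succ, pow_two]
    ext i j
    simp only [Matrix.SpecialLinearGroup.coe_mul, Matrix.SpecialLinearGroup.coe_one]
    fin_cases i <;> fin_cases j <;> simp [x, y, Matrix.mul_apply, Fin.sum_univ_two]
    · linear_combination 11 * h3'
    · linear_combination 7 * h3'
    · linear_combination 7 * h3'
    · linear_combination 4 * h3'
  have e := orderOf_eq_one_iff.mp (Nat.eq_one_of_dvd_coprimes
    ((Nat.coprime_two_left.mpr hxy).pow_left 2) (show orderOf (x * y) ∣ 2 ^ 2 from orderOf_dvd_of_pow_eq_one h4) dvd_rfl)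
  have := congrArg (fun m : SpecialLinearGroup (Fin 2) F => m.1 0 1) e
  simp only [Matrix.SpecialLinearGroup.coe_mul] at this
  simp [x, y, Matrix.mul_apply, Fin.sum_univ_two] at this

end CfsgLib.GU2Cent
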