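import Cfsg.Agent.Lib.GU2Cent.AxisE
import Cfsg.Agent.Lib.GL2Cent.NoFusion
import Mathlib.GroupTheory.Nilpotent
import Mathlib.FieldTheory.Finite.Basic

/-!
An odd prime dividing `q - 1` does not divide the index of the involution centraliser `GU₂(q)/Z`: the invariant
Sylow `l`-subgroup of `C(h)` lies in `C(t)`, as otherwise the normaliser of the elementary abelian group of order
`l³` gives the linear configuration which does not occur.
-/

set_option autoImplicit false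
set_option linter.unusedSectionVars false
set_option linter.style.haveILetI false

namespace CfsgLib.GU2Cent

universe u

variable {G : Type u} [Group G] [Finite G] {l : ℕ} [hl : Fact l.Prime] {H : Axis G l} (A : AxQ H)

namespace AxQ.Frame

variable {A} (D : A.Frame)

/-- The elementary abelian group. -/
def E : Subgroup G := Subgroup.closure ({H.h, D.a, D.b} : Set G)

theorem h_E : H.h ∈ D.E := Subgroup.subset_closure (by simp)
theorem a_E : D.a ∈ D.E := Subgroup.subset_closure (by simp)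
theorem b_E : D.b ∈ D.E := Subgroup.subset_closure (by simp)

theorem E_Q : D.E ≤ A.Q := (Subgroup.closure_le _).mpr (by
  rintro x (rfl | rfl | rfl)
  exacts [A.hQ, D.aQ, D.bQ])

/-- The elements written in the basis. -/
def el (i : Fin 3 → ℤ) : G := H.h ^ i 0 * (D.a ^ i 1 * D.b ^ i 2)

theorem comm_gen : Commute H.h D.a ∧ Commute H.h D.b ∧ Commute D.a D.b :=
  ⟨(A.Qh _ D.aQ).symm, (A.Qh _ D.bQ).symm, D.ab⟩

theorem el_add (i j : Fin 3 → ℤ) : D.el (i + j) = D.el i * D.el j := by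
  obtain ⟨h1, h2, h3⟩ := D.comm_gen
  simp only [el, Pi.add_apply, zpow_add]
  rw [(show Commute (D.a ^ i 1 * D.b ^ i 2) (H.h ^ j 0) from
      (((h1.zpow_zpow (j 0) (i 1))).symm.mul_left ((h2.zpow_zpow (j 0) (i 2))).symm)).mul_mul_mul_comm,
    (show Commute (D.b ^ i 2) (D.a ^ j 1) from (h3.zpow_zpow (j 1) (i 2)).symm).mul_mul_mul_comm]

theorem el_zero : D.el 0 = 1 := by simp [el]

theorem el_neg (i : Fin 3 → ℤ) : D.el (-i) = (D.el i)⁻¹ := by
  refine eq_inv_of_mul_eq_one_left ?_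
  rw [← D.el_add, neg_add_cancel, D.el_zero]

theorem el_zpow (i : Fin 3 → ℤ) (n : ℤ) : D.el i ^ n = D.el (n • i) := by
  induction n using Int.induction_on with
  | zero => simp [D.el_zero]
  | succ n ih => rw [zpow_add_one, ih, add_smul, one_smul, D.el_add]
  | pred n ih => rw [zpow_sub_one, ih, sub_smul, one_smul, sub_eq_add_neg, D.el_add, D.el_neg]

theorem el_E (i : Fin 3 → ℤ) : D.el i ∈ D.E :=
  mul_mem (zpow_mem D.h_E _) (mul_mem (zpow_mem D.a_E _) (zpow_mem D.b_E _))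

theorem exists_el {x : G} (hx : x ∈ D.E) : ∃ i, D.el i = x := by
  induction hx using Subgroup.closure_induction with
  | mem y hy =>
    rcases hy with rfl | rfl | rfl
    · exact ⟨![1, 0, 0], by simp [el]⟩
    · exact ⟨![0, 1, 0], by simp [el]⟩
    · exact ⟨![0, 0, 1], by simp [el]⟩
  | one => exact ⟨0, D.el_zero⟩
  | mul x y _ _ hx hy =>
    obtain ⟨i, rfl⟩ := hx
    obtain ⟨j, rfl⟩ := hy
    exact ⟨i + j, D.el_add i j⟩
  | inv x _ hx =>
    obtain ⟨i, rfl⟩ := hx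
    exact ⟨-i, D.el_neg i⟩

theorem el_pow (i : Fin 3 → ℤ) : D.el i ^ l = 1 := by
  obtain ⟨h1, h2, h3⟩ := D.comm_gen
  have hp : ∀ {x : G}, orderOf x = l → ∀ n : ℤ, (x ^ n) ^ l = 1 := fun {x} hx n => by
    rw [← zpow_natCast, ← zpow_mul, ← orderOf_dvd_iff_zpow_eq_one, hx]; exact dvd_mul_left _ _
  rw [el, ((h1.zpow_zpow _ _).mul_right (h2.zpow_zpow _ _)).mul_pow, (h3.zpow_zpow _ _).mul_pow, hp H.hord,
    hp D.ao, hp D.bo, one_mul, one_mul]

theorem conj_t_el (i : Fin 3 → ℤ) : H.t * D.el i * H.t⁻¹ = D.el ![i 0, -i 1, -i 2] := by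
  rw [el, show H.t * (H.h ^ i 0 * (D.a ^ i 1 * D.b ^ i 2)) * H.t⁻¹ =
    H.t * H.h ^ i 0 * H.t⁻¹ * ((H.t * D.a ^ i 1 * H.t⁻¹) * (H.t * D.b ^ i 2 * H.t⁻¹)) by group,
    ← conj_zpow, ← conj_zpow, ← conj_zpow, ← H.ht, mul_inv_cancel_right, D.at_, D.bt]
  simp [el]

theorem conj_v_el (i : Fin 3 → ℤ) : H.v * D.el i * H.v⁻¹ = D.el ![-i 0, i 1, -i 2] := by
  rw [el, show H.v * (H.h ^ i 0 * (D.a ^ i 1 * D.b ^ i 2)) * H.v⁻¹ =
    H.v * H.h ^ i 0 * H.v⁻¹ * ((H.v * D.a ^ i 1 * H.v⁻¹) * (H.v * D.b ^ i 2 * H.v⁻¹)) by group,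
    ← conj_zpow, ← conj_zpow, ← conj_zpow, H.vh, ← D.av, mul_inv_cancel_right, D.bv]
  simp [el]

theorem el_eq_one {i : Fin 3 → ℤ} (h : D.el i = 1) : ∀ k, ((i k : ℤ) : ZMod l) = 0 := by
  have ht := D.conj_t_el i
  rw [h, mul_one, mul_inv_cancel] at ht
  have hv := D.conj_v_el i
  rw [h, mul_one, mul_inv_cancel] at hv
  have h1 : D.el (i + ![i 0, -i 1, -i 2]) = 1 := by rw [D.el_add, h, ← ht, one_mul]
  have h2 : D.el (i + ![-i 0, i 1, -i 2]) = 1 := by rw [D.el_add, h, ← hv, one_mul]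
  have h3 : D.el (i + ![i 0, -i 1, -i 2] + (i + ![-i 0, i 1, -i 2]) + -(i + i)) = 1 := by
    rw [D.el_add, D.el_add, h1, h2, D.el_neg, D.el_add, h]; simp
  have hz : ∀ {x : G}, orderOf x = l → ∀ n : ℤ, x ^ (2 * n) = 1 → (n : ZMod l) = 0 := fun {x} hx n hn => by
    rw [← orderOf_dvd_iff_zpow_eq_one, hx, ← ZMod.intCast_zmod_eq_zero_iff_dvd] at hn
    push_cast at hn
    refine (mul_eq_zero.mp hn).resolve_left fun h2 => A.hl2 ?_
    have h2' : ((2 : ℕ) : ZMod l) = 0 := by push_cast; exact h2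
    rw [CharP.cast_eq_zero_iff (ZMod l) l] at h2'
    exact (Nat.prime_dvd_prime_iff_eq hl.out Nat.prime_two).mp h2'
  intro k
  fin_cases k
  · refine hz H.hord _ ?_
    simpa [el, two_mul] using h1
  · refine hz D.ao _ ?_
    simpa [el, two_mul] using h2
  · refine hz D.bo _ ?_
    have e : i + ![i 0, -i 1, -i 2] + (i + ![-i 0, i 1, -i 2]) + -(i + i) = ![0, 0, -(2 * i 2)] := by
      funext m; fin_cases m <;> simp [Matrix.vecHead, Matrix.vecTail] <;> ring
    rw [e] at h3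
    simpa [el] using h3

theorem el_cast {i j : Fin 3 → ℤ} (h : D.el i = D.el j) : ∀ k, ((i k : ℤ) : ZMod l) = (j k : ZMod l) := by
  intro k
  have h1 : D.el (i + -j) = 1 := by rw [D.el_add, D.el_neg, h, mul_inv_cancel]
  have := D.el_eq_one h1 k
  push_cast [Pi.add_apply, Pi.neg_apply] at this
  linear_combination this

/-- The normaliser of `E`. -/
def N : Subgroup G := Subgroup.normalizer (D.E : Set G)

theorem N_mem {x e : G} (hx : x ∈ D.N) (he : e ∈ D.E) : x * e * x⁻¹ ∈ D.E :=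
  (Subgroup.mem_normalizer_iff.mp hx e).mp he

theorem mem_N {x : G} (h : ∀ y ∈ ({H.h, D.a, D.b} : Set G), x * y * x⁻¹ ∈ D.E) : x ∈ D.N := by
  refine Subgroup.mem_normalizer_fintype fun e he => ?_
  show x * e * x⁻¹ ∈ D.E
  induction he using Subgroup.closure_induction with
  | mem y hy => exact h y hy
  | one => simp
  | mul u w _ _ hu hw =>
    rw [show x * (u * w) * x⁻¹ = x * u * x⁻¹ * (x * w * x⁻¹) by group]; exact mul_mem hu hw
  | inv u _ hu =>
    rw [show x * u⁻¹ * x⁻¹ = (x * u * x⁻¹)⁻¹ by group]; exact inv_mem hu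

/-- The basis. -/
def bas (k : Fin 3) : G := D.el (fun m => if m = k then 1 else 0)

theorem bas_vals : D.bas 0 = H.h ∧ D.bas 1 = D.a ∧ D.bas 2 = D.b := by simp [bas, el]

/-- Some coordinates. -/
noncomputable def crd (x : G) : Fin 3 → ℤ := Classical.epsilon fun i => D.el i = x

theorem el_crd {x : G} (hx : x ∈ D.E) : D.el (D.crd x) = x := Classical.epsilon_spec (D.exists_el hx)

theorem conj_el {x : G} (hx : x ∈ D.N) (i : Fin 3 → ℤ) :
    x * D.el i * x⁻¹ = D.el (fun m => ∑ k, i k * D.crd (x * D.bas k * x⁻¹) m) := by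
  obtain ⟨e0, e1, e2⟩ := D.bas_vals
  have key : ∀ k, x * D.bas k * x⁻¹ = D.el (D.crd (x * D.bas k * x⁻¹)) := fun k =>
    (D.el_crd (D.N_mem hx (D.el_E _))).symm
  conv_lhs => rw [el, show x * (H.h ^ i 0 * (D.a ^ i 1 * D.b ^ i 2)) * x⁻¹ =
    x * H.h ^ i 0 * x⁻¹ * ((x * D.a ^ i 1 * x⁻¹) * (x * D.b ^ i 2 * x⁻¹)) by group,
    ← conj_zpow, ← conj_zpow, ← conj_zpow, ← e0, ← e1, ← e2, key 0, key 1, key 2, D.el_zpow, D.el_zpow, D.el_zpow,
    ← D.el_add, ← D.el_add]
  congr 1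
  funext m
  simp [Fin.sum_univ_three, add_assoc]

/-- The matrix of conjugation. -/
noncomputable def mat (x : G) : Matrix (Fin 3) (Fin 3) (ZMod l) :=
  Matrix.of fun i k => ((D.crd (x * D.bas k * x⁻¹) i : ℤ) : ZMod l)

theorem mat_col {x : G} {k : Fin 3} {i : Fin 3 → ℤ} (h : x * D.bas k * x⁻¹ = D.el i) (m : Fin 3) :
    D.mat x m k = (i m : ZMod l) :=
  D.el_cast (by rw [D.el_crd (h ▸ D.el_E i), h]) m

theorem mat_mul {x y : G} (hx : x ∈ D.N) (hy : y ∈ D.N) : D.mat (x * y) = D.mat x * D.mat y := by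
  ext m k
  have h : (x * y) * D.bas k * (x * y)⁻¹ =
      D.el (fun m => ∑ j, D.crd (y * D.bas k * y⁻¹) j * D.crd (x * D.bas j * x⁻¹) m) := by
    rw [← D.conj_el hx, D.el_crd (show y * D.bas k * y⁻¹ ∈ D.E from D.N_mem hy (D.el_E _))]; group
  rw [D.mat_col h, Matrix.mul_apply, Int.cast_sum]
  simp [mat, mul_comm]

theorem mat_one : D.mat 1 = 1 := by
  ext m k
  rw [D.mat_col (i := fun m => if m = k then 1 else 0) (by simp [bas]), Matrix.one_apply]
  by_cases h : m = k <;> simp [h]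

/-- The representation. -/
noncomputable def rep : D.N →* GL (Fin 3) (ZMod l) :=
  MonoidHom.toHomUnits
    { toFun := fun x : D.N => D.mat x
      map_one' := D.mat_one
      map_mul' := fun x y => D.mat_mul x.2 y.2 }

theorem rep_val (x : D.N) : (D.rep x).1 = D.mat x := rfl

theorem t_N : H.t ∈ D.N := D.mem_N fun y hy => by
  rcases hy with rfl | rfl | rfl
  · rw [← H.ht, mul_inv_cancel_right]; exact D.h_E
  · rw [D.at_]; exact inv_mem D.a_E
  · rw [D.bt]; exact inv_mem D.b_E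

theorem v_N : H.v ∈ D.N := D.mem_N fun y hy => by
  rcases hy with rfl | rfl | rfl
  · rw [H.vh]; exact inv_mem D.h_E
  · rw [← D.av, mul_inv_cancel_right]; exact D.a_E
  · rw [D.bv]; exact inv_mem D.b_E

theorem τ_N : H.τ ∈ D.N := Subgroup.mem_normalizer_fintype fun e he => D.τE e he

theorem mat_t : D.mat H.t = Matrix.diagonal ![1, -1, -1] := by
  ext m k
  rw [D.mat_col (D.conj_t_el fun m => if m = k then 1 else 0)]
  fin_cases m <;> fin_cases k <;> simp

theorem mat_v : D.mat H.v = Matrix.diagonal ![-1, 1, -1] := by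
  ext m k
  rw [D.mat_col (D.conj_v_el fun m => if m = k then 1 else 0)]
  fin_cases m <;> fin_cases k <;> simp

/-- No involution centralises `h` and `a`. -/
theorem odd_cent {x : G} (hh : x * H.h = H.h * x) (ha : x * D.a = D.a * x) : Odd (orderOf x) := by
  by_contra ho
  rw [Nat.not_odd_iff_even] at ho
  set u := x ^ (orderOf x / 2) with hu
  have huo : orderOf u = 2 := orderOf_pow_orderOf_div (orderOf_pos x).ne' ho.two_dvd
  obtain ⟨hu2, hu1⟩ := CfsgLib.Involutions.orderOf_eq_two_iff'.1 huo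
  obtain ⟨g, hgh, hgu⟩ := H.inv_conj A.hl2 hu2 hu1 ((Commute.pow_left hh _).eq)
  set Cy := Subgroup.closure ({H.h, D.a} : Set G)
  have hCy : Cy ≤ A.Q := (Subgroup.closure_le _).mpr (by rintro y (rfl | rfl); exacts [A.hQ, D.aQ])
  have hcyc : IsCyclic Cy := by
    refine H.cyc_conj hgu (A.pQ.to_le hCy) fun y hy => ?_
    induction hy using Subgroup.closure_induction with
    | mem y hy =>
      rcases hy with rfl | rfl
      · exact (Commute.pow_left hh _).symm.eq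
      · exact (Commute.pow_left ha _).symm.eq
    | one => simp
    | mul p q _ _ hp hq => exact (Commute.mul_left hp hq).eq
    | inv p _ hp => exact (Commute.inv_left hp).eq
  have hm : D.a ∈ Subgroup.zpowers H.h :=
    mem_zpowers_of_cyclic hcyc (Subgroup.subset_closure (by simp)) (Subgroup.subset_closure (by simp)) H.hord
      (orderOf_dvd_iff_pow_eq_one.mp D.ao.dvd)
  obtain ⟨n, hn⟩ := Subgroup.mem_zpowers_iff.mp hm
  have h1 : D.el ![n, -1, 0] = 1 := by simp [el, hn]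
  have := D.el_eq_one h1 1
  simp at this

theorem ker_odd {x : D.N} (hx : D.rep x = 1) : Odd (orderOf (x : G)) := by
  have hm : D.mat x = 1 := by rw [← D.rep_val, hx]; rfl
  have key : ∀ k, (x : G) * D.bas k * (x : G)⁻¹ = D.bas k := fun k => by
    have hE := D.N_mem x.2 (D.el_E (fun m => if m = k then 1 else 0))
    obtain ⟨i, hi⟩ := D.exists_el hE
    have hc : ∀ m, (i m : ZMod l) = ((if m = k then 1 else 0 : ℤ) : ZMod l) := fun m => by
      rw [← D.mat_col hi.symm m, hm, Matrix.one_apply]; by_cases h : m = k <;> simp [h]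
    rw [show D.bas k = D.el (fun m => if m = k then 1 else 0) from rfl, ← hi]
    obtain ⟨q, hq⟩ : ∃ q : Fin 3 → ℤ, i = (fun m => if m = k then 1 else 0) + (l : ℤ) • q := by
      choose q hq using fun m => (ZMod.intCast_eq_intCast_iff_dvd_sub _ _ _).mp (hc m).symm
      exact ⟨q, funext fun m => by simp [← hq m]⟩
    rw [hq, D.el_add, ← D.el_zpow, zpow_natCast, D.el_pow, mul_one]
  obtain ⟨e0, e1, -⟩ := D.bas_vals
  refine D.odd_cent ?_ ?_
  · exact mul_inv_eq_iff_eq_mul.mp (e0 ▸ key 0)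
  · exact mul_inv_eq_iff_eq_mul.mp (e1 ▸ key 1)

theorem false_of_swap {d : G} (hd : d ∈ D.N) (hdt : d * H.t * d⁻¹ = H.v) : False := by
  classical
  let L := D.rep.range
  let tL : L := ⟨_, ⟨⟨H.t, D.t_N⟩, rfl⟩⟩
  let vL : L := ⟨_, ⟨⟨H.v, D.v_N⟩, rfl⟩⟩
  let τL : L := ⟨_, ⟨⟨H.τ, D.τ_N⟩, rfl⟩⟩
  have h2 : (2 : ZMod l) ≠ 0 := fun h => A.hl2 (by
    have h2' : ((2 : ℕ) : ZMod l) = 0 := by push_cast; exact h
    rw [CharP.cast_eq_zero_iff (ZMod l) l] at h2'
    exact (Nat.prime_dvd_prime_iff_eq hl.out Nat.prime_two).mp h2')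
  have hT : ∀ z : L, z ∈ ((H.T.subgroupOf D.N).map D.rep.rangeRestrict) → ∃ y : D.N, (y : G) ∈ H.T ∧
      D.rep.rangeRestrict y = z := fun z ⟨y, hy, e⟩ => ⟨y, hy, e⟩
  refine CfsgLib.GL2Cent.Lin3.false_of_fused (K := ZMod l) (L := L)
    { φ := L.subtype
      inj := L.subtype_injective
      two := h2
      t := tL
      s := vL
      ρ := τL
      T := (H.T.subgroupOf D.N).map D.rep.rangeRestrict
      c := H.c
      hc := H.hc
      ht := D.mat_t
      hs := D.mat_v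
      comm := ?_
      cent := ?_
      fix0 := ?_
      mem := ?_
      ρT := ⟨⟨H.τ, D.τ_N⟩, H.τT, rfl⟩
      sρ := ?_
      ρord := ?_
      exact2 := ?_
      fused := ?_ }
  · intro x0 hx0 y0 hy0
    obtain ⟨x, hx, rfl⟩ := hT x0 hx0
    obtain ⟨y, hy, rfl⟩ := hT y0 hy0
    rw [← map_mul, ← map_mul]
    congr 1
    exact Subtype.ext (H.Tcomm _ hx _ hy)
  · intro x0 hx0
    obtain ⟨x, hx, rfl⟩ := hT x0 hx0
    show D.rep.rangeRestrict x * D.rep.rangeRestrict ⟨H.t, D.t_N⟩ = D.rep.rangeRestrict ⟨H.t, D.t_N⟩ * _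
    rw [← map_mul, ← map_mul]
    congr 1
    exact Subtype.ext ((H.memT _).mp hx).1
  · intro x0 hx0
    obtain ⟨x, hx, rfl⟩ := hT x0 hx0
    show D.mat x 0 0 = 1
    rw [D.mat_col (i := ![1, 0, 0]) (by
      rw [D.bas_vals.1, ((H.memT _).mp hx).2, mul_inv_cancel_right]; simp [el])]
    simp
  · rintro ⟨_, x, rfl⟩ hc
    -- lift to an element commuting with `t`
    set m : D.N := x⁻¹ * (⟨H.t, D.t_N⟩ * x * ⟨H.t, D.t_N⟩) with hm
    have htt : (⟨H.t, D.t_N⟩ : D.N) * ⟨H.t, D.t_N⟩ = 1 := Subtype.ext H.tt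
    have hm1 : D.rep m = 1 := by
      have e : D.rep x * D.rep ⟨H.t, D.t_N⟩ = D.rep ⟨H.t, D.t_N⟩ * D.rep x := congrArg Subtype.val hc
      rw [hm, map_mul, map_mul, map_mul, map_inv, mul_assoc (D.rep ⟨H.t, D.t_N⟩), e,
        ← mul_assoc (D.rep ⟨H.t, D.t_N⟩), ← map_mul D.rep, htt, map_one, one_mul, inv_mul_cancel]
    have hmo : Odd (orderOf (m : G)) := D.ker_odd hm1
    obtain ⟨k, -, hk2⟩ := exists_fix_twist (s := H.t) (g := (x : G)) H.tt (by simpa [hm] using hmo)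
    set x' : D.N := x * m ^ k with hx'
    have hx't : (x' : G) * H.t = H.t * x' := by simpa [hx', hm] using hk2.eq
    have hxe : D.rep x' = D.rep x := by rw [hx', map_mul, map_pow, hm1, one_pow, mul_one]
    have hh : (x' : G) * H.h * (x' : G)⁻¹ ∈ Subgroup.zpowers H.h := by
      have hE := D.N_mem x'.2 D.h_E
      refine A.fix_t (D.E_Q hE) (by rw [conj_pow, H.h_pow]; group) ?_
      have c1 : Commute (x' : G) H.t := hx't
      exact ((c1.mul_left (show Commute H.h H.t from H.ht)).mul_left c1.inv_left).eq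
    have hxr : (⟨D.rep x, x, rfl⟩ : L) = D.rep.rangeRestrict x' := Subtype.ext hxe.symm
    rcases H.norm _ hx't hh with h | h
    · exact Or.inl ⟨x', h, hxr.symm⟩
    · refine Or.inr ⟨x' * ⟨H.v, D.v_N⟩, h, ?_⟩
      rw [map_mul, ← hxr]; rfl
  · show D.rep.rangeRestrict ⟨H.v, D.v_N⟩ * D.rep.rangeRestrict ⟨H.τ, D.τ_N⟩ *
      (D.rep.rangeRestrict ⟨H.v, D.v_N⟩)⁻¹ = (D.rep.rangeRestrict ⟨H.τ, D.τ_N⟩)⁻¹ * D.rep.rangeRestrict ⟨H.t, D.t_N⟩
    rw [← map_inv, ← map_inv, ← map_mul, ← map_mul, ← map_mul]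
    congr 1
    exact Subtype.ext H.vτ
  · haveI : Fact (Nat.Prime 2) := ⟨Nat.prime_two⟩
    have e : τL ^ 2 ^ (H.c - 1) = tL := by
      show D.rep.rangeRestrict ⟨H.τ, D.τ_N⟩ ^ _ = D.rep.rangeRestrict ⟨H.t, D.t_N⟩
      rw [← map_pow]; congr 1; exact Subtype.ext H.τt
    have ht1 : tL ≠ 1 := fun e => by
      have := congrArg (fun z : L => (z : GL (Fin 3) (ZMod l)).1 1 1) e
      simp [tL, rep_val, mat_t] at this
      exact h2 (by linear_combination -this)
    have := orderOf_eq_prime_pow (p := 2) (n := H.c - 1) (x := τL) (by rw [e]; exact ht1) (by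
      rw [pow_succ, pow_mul, e, pow_two]
      show D.rep.rangeRestrict ⟨H.t, D.t_N⟩ * D.rep.rangeRestrict ⟨H.t, D.t_N⟩ = 1
      rw [← map_mul, show (⟨H.t, D.t_N⟩ : D.N) * ⟨H.t, D.t_N⟩ = 1 from Subtype.ext H.tt, map_one])
    rwa [show H.c - 1 + 1 = H.c by have := H.hc; omega] at this
  · exact fun h => H.exact2 (h.trans ((Subgroup.card_range_dvd D.rep).trans D.N.card_subgroup_dvd_card))
  · refine isConj_iff.mpr ⟨D.rep.rangeRestrict ⟨d, hd⟩, ?_⟩
    show D.rep.rangeRestrict ⟨d, hd⟩ * D.rep.rangeRestrict ⟨H.t, D.t_N⟩ * (D.rep.rangeRestrict ⟨d, hd⟩)⁻¹ =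
      D.rep.rangeRestrict ⟨H.v, D.v_N⟩
    rw [← map_inv, ← map_mul, ← map_mul]
    congr 1
    exact Subtype.ext hdt

/-- The swap, moved into the normaliser. -/
theorem exists_d {O : Subgroup G} (hOc : O ≤ Subgroup.centralizer ({H.h} : Set G)) (hOo : Odd (Nat.card O))
    (hOall : ∀ x : G, x * H.h = H.h * x → Odd (orderOf x) → x ∈ O) (hQc : Nat.card A.Q = l ^ (Nat.card O).factorization l) :
    ∃ d ∈ D.N, d * H.t * d⁻¹ = H.v := by
  haveI : Fact (Nat.Prime 2) := ⟨Nat.prime_two⟩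
  obtain ⟨g0, hg0, hg0'⟩ := H.swap
  -- move `h` to `a`
  obtain ⟨c, hct, hcv, hch⟩ := H.transl A.hl2 (a := g0⁻¹ * D.a * g0)
    (by rw [show g0⁻¹ * D.a * g0 = (MulAut.conj g0⁻¹) D.a by simp, MulEquiv.orderOf_eq, D.ao])
    (by
      rw [show H.t = g0⁻¹ * H.v * g0 by rw [← hg0]; group]
      calc g0⁻¹ * D.a * g0 * (g0⁻¹ * H.v * g0) = g0⁻¹ * (D.a * H.v) * g0 := by group
        _ = _ := by rw [D.av]; group)
    (by
      rw [show H.v = g0⁻¹ * H.t * g0 by rw [← hg0']; group]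
      calc g0⁻¹ * H.t * g0 * (g0⁻¹ * D.a * g0) * (g0⁻¹ * H.t * g0)⁻¹ = g0⁻¹ * (H.t * D.a * H.t⁻¹) * g0 := by group
        _ = _ := by rw [D.at_]; group)
  set g := g0 * c with hgdef
  have hgt : g * H.t * g⁻¹ = H.v := by
    rw [show g * H.t * g⁻¹ = g0 * (c * H.t * c⁻¹) * g0⁻¹ by rw [hgdef]; group, hct, mul_inv_cancel_right, hg0]
  have hgv : g * H.v * g⁻¹ = H.t := by
    rw [show g * H.v * g⁻¹ = g0 * (c * H.v * c⁻¹) * g0⁻¹ by rw [hgdef]; group, hcv, mul_inv_cancel_right, hg0']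
  have hgh : g * H.h * g⁻¹ ∈ Subgroup.zpowers D.a := by
    obtain ⟨n, hn⟩ := Subgroup.mem_zpowers_iff.mp hch
    refine Subgroup.mem_zpowers_iff.mpr ⟨n, ?_⟩
    rw [show g * H.h * g⁻¹ = g0 * (c * H.h * c⁻¹) * g0⁻¹ by rw [hgdef]; group, ← hn,
      ← conj_zpow (a := g0) (b := g0⁻¹ * D.a * g0)]
    group
  have hgh' : D.a ∈ Subgroup.zpowers (g * H.h * g⁻¹) :=
    mem_zpowers_of_cyclic (P := Subgroup.zpowers D.a) inferInstance (Subgroup.mem_zpowers _) hgh
      (by rw [show g * H.h * g⁻¹ = (MulAut.conj g) H.h from rfl, MulEquiv.orderOf_eq, H.hord])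
      (orderOf_dvd_iff_pow_eq_one.mp D.ao.dvd)
  set K := O.map (MulAut.conj g).toMonoidHom with hK
  set U := Subgroup.zpowers H.t ⊔ Subgroup.zpowers H.v with hU
  have hUp : IsPGroup 2 U := H.two_group.to_le (sup_le
    (le_sup_of_le_right ((Subgroup.zpowers_le).mpr (H.τt ▸ pow_mem (Subgroup.mem_zpowers _) _))) le_sup_left)
  -- invariance
  have hnorm : ∀ {S : Subgroup G}, (∀ x ∈ S, H.t * x * H.t⁻¹ ∈ S) → (∀ x ∈ S, H.v * x * H.v⁻¹ ∈ S) →
      U ≤ Subgroup.normalizer (S : Set G) := fun {S} h1 h2 =>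
    sup_le ((Subgroup.zpowers_le).mpr (Subgroup.mem_normalizer_fintype h1))
      ((Subgroup.zpowers_le).mpr (Subgroup.mem_normalizer_fintype h2))
  have hOinv : ∀ {s : G}, (s * H.h * s⁻¹ = H.h ∨ s * H.h * s⁻¹ = H.h⁻¹) → ∀ x ∈ O, s * x * s⁻¹ ∈ O := by
    intro s hs x hx
    have hx' : Commute x H.h := Subgroup.mem_centralizer_singleton_iff.mp (hOc hx)
    refine hOall _ ?_ ?_
    · have e : Commute (s * x * s⁻¹) (s * H.h * s⁻¹) := hx'.map (MulAut.conj s).toMonoidHom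
      rcases hs with h | h
      · exact (h ▸ e).eq
      · exact (Commute.inv_right_iff.mp (h ▸ e)).eq
    · rw [show s * x * s⁻¹ = (MulAut.conj s) x from rfl, MulEquiv.orderOf_eq]
      exact hOo.of_dvd_nat (Subgroup.orderOf_dvd_natCard O hx)
  have hswap : ∀ {S : Subgroup G}, (∀ x ∈ S, H.t * x * H.t⁻¹ ∈ S) → (∀ x ∈ S, H.v * x * H.v⁻¹ ∈ S) →
      U ≤ Subgroup.normalizer ((S.map (MulAut.conj g).toMonoidHom : Subgroup G) : Set G) := fun {S} h1 h2 =>
    hnorm
      (by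
        rintro _ ⟨x, hx, rfl⟩
        refine ⟨H.v * x * H.v⁻¹, h2 x hx, ?_⟩
        rw [← hgv]; simp [mul_assoc])
      (by
        rintro _ ⟨x, hx, rfl⟩
        refine ⟨H.t * x * H.t⁻¹, h1 x hx, ?_⟩
        rw [← hgt]; simp [mul_assoc])
  have hUK : U ≤ Subgroup.normalizer (K : Set G) := hswap
    (hOinv (Or.inl (by rw [← H.ht, mul_inv_cancel_right]))) (hOinv (Or.inr H.vh))
  have hKc : Nat.card K = Nat.card O := Subgroup.card_map_of_injective (MulAut.conj g).injective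
  have hcop : (Nat.card U).Coprime (Nat.card K) := by
    obtain ⟨n, hn⟩ := IsPGroup.iff_card.mp hUp
    rw [hn, hKc]; exact (Nat.coprime_two_left.mpr hOo).pow_left n
  have hsolv : Group.IsSolvable U ∨ Group.IsSolvable K := Or.inl (by
    haveI := hUp.isNilpotent
    infer_instance)
  -- `E` inside `K`
  have hEK : D.E ≤ K := by
    intro e he
    refine ⟨g⁻¹ * e * g, hOall _ ?_ ?_, by simp [mul_assoc]⟩
    · obtain ⟨n, hn⟩ := Subgroup.mem_zpowers_iff.mp hgh
      obtain ⟨i, rfl⟩ := D.exists_el he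
      have hce : Commute (D.el i) (g * H.h * g⁻¹) := by
        rw [← hn]
        obtain ⟨h1, h2, h3⟩ := D.comm_gen
        refine Commute.zpow_right ?_ n
        exact (h1.zpow_left _).mul_left (((Commute.refl _).zpow_left _).mul_left (h3.symm.zpow_left _))
      calc g⁻¹ * D.el i * g * H.h = g⁻¹ * (D.el i * (g * H.h * g⁻¹)) * g := by group
        _ = g⁻¹ * (g * H.h * g⁻¹ * D.el i) * g := by rw [hce.eq]
        _ = _ := by group
    · rw [show g⁻¹ * e * g = (MulAut.conj g⁻¹) e by simp, MulEquiv.orderOf_eq]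
      exact A.odd_ord (D.E_Q he)
  -- the moved invariant Sylow subgroup
  set Q' := A.Q.map (MulAut.conj g).toMonoidHom with hQ'
  have hQO : A.Q ≤ O := fun x hx => hOall x (A.Qh x hx) (A.odd_ord hx)
  have hQ'K : Q' ≤ K := Subgroup.map_mono hQO
  let PQ : Sylow l K := Sylow.ofCard (Q'.subgroupOf K) (by
    rw [Nat.card_congr (Subgroup.subgroupOfEquivOfLe hQ'K).toEquiv, hQ',
      Subgroup.card_map_of_injective (MulAut.conj g).injective, hQc, hKc])
  have hPQ : (PQ : Subgroup K).map K.subtype = Q' := Subgroup.map_subgroupOf_eq_of_le hQ'K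
  obtain ⟨P, hEP, hPU⟩ := CfsgLib.coprime_le_invariant_sylow hUK hcop hsolv (p := l) hEK (A.pQ.to_le D.E_Q)
    (hnorm (fun x hx => D.N_mem D.t_N hx) (fun x hx => D.N_mem D.v_N hx))
  obtain ⟨k, hkc, hk⟩ := CfsgLib.coprime_invariant_sylow_conj hUK hcop hsolv PQ P
    (by rw [hPQ]; exact hswap A.Qt A.Qv) hPU
  set d := (k : G) * g with hd
  have hkt : Commute (k : G) H.t :=
    (Subgroup.mem_centralizer_iff.mp hkc H.t (Subgroup.mem_sup_left (Subgroup.mem_zpowers _))).symm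
  have hkv : Commute (k : G) H.v :=
    (Subgroup.mem_centralizer_iff.mp hkc H.v (Subgroup.mem_sup_right (Subgroup.mem_zpowers _))).symm
  have hdt : d * H.t * d⁻¹ = H.v := by
    rw [show d * H.t * d⁻¹ = (k : G) * (g * H.t * g⁻¹) * (k : G)⁻¹ by rw [hd]; group, hgt, hkv.eq,
      mul_inv_cancel_right]
  have hdv : d * H.v * d⁻¹ = H.t := by
    rw [show d * H.v * d⁻¹ = (k : G) * (g * H.v * g⁻¹) * (k : G)⁻¹ by rw [hd]; group, hgv, hkt.eq,
      mul_inv_cancel_right]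
  have hback : ∀ e ∈ D.E, d⁻¹ * e * d ∈ A.Q := by
    intro e he
    obtain ⟨p, hp, rfl⟩ := hEP he
    rw [← hk, SetLike.mem_coe, Sylow.pointwise_smul_def, Subgroup.mem_pointwise_smul_iff_inv_smul_mem] at hp
    have : ((k⁻¹ * p * k : K) : G) ∈ Q' := by
      rw [← hPQ]
      refine ⟨k⁻¹ * p * k, ?_, rfl⟩
      show k⁻¹ * p * k ∈ (PQ : Subgroup K)
      have h' := hp
      simp [MulAut.smul_def, mul_assoc] at h' ⊢
      exact h'
    obtain ⟨x, hx, hxe⟩ := this
    have e : d⁻¹ * (K.subtype p) * d = x := by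
      have hxe' : g * x * g⁻¹ = (k : G)⁻¹ * (p : G) * k := by simpa using hxe
      rw [hd]
      calc ((k : G) * g)⁻¹ * (p : G) * ((k : G) * g) = g⁻¹ * ((k : G)⁻¹ * (p : G) * k) * g := by group
        _ = x := by rw [← hxe']; group
    rw [e]; exact hx
  have hpow : ∀ e ∈ D.E, (d⁻¹ * e * d) ^ l = 1 := fun e he => by
    obtain ⟨i, rfl⟩ := D.exists_el he
    rw [show d⁻¹ * D.el i * d = d⁻¹ * D.el i * (d⁻¹)⁻¹ by rw [inv_inv], conj_pow, D.el_pow]; group
  have hconj : ∀ {e s : G}, Commute e s → Commute (d⁻¹ * e * d) (d⁻¹ * s * d) := fun {e s} h => by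
    simpa using h.map (MulAut.conj d⁻¹).toMonoidHom
  have hs1 : d⁻¹ * H.v * d = H.t := by rw [← hdt]; group
  have hs2 : d⁻¹ * H.t * d = H.v := by rw [← hdv]; group
  have htv : d⁻¹ * (H.t * H.v) * d = H.t * H.v := by
    rw [show d⁻¹ * (H.t * H.v) * d = (d⁻¹ * H.t * d) * (d⁻¹ * H.v * d) by group, hs1, hs2, H.tv]
  have hbtv : D.b * (H.t * H.v) = H.t * H.v * D.b := by
    have h2 : H.t * H.v * D.b * (H.t * H.v)⁻¹ = D.b := by
      rw [show H.t * H.v * D.b * (H.t * H.v)⁻¹ = H.t * (H.v * D.b * H.v⁻¹) * H.t⁻¹ by group, D.bv,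
        show H.t * D.b⁻¹ * H.t⁻¹ = (H.t * D.b * H.t⁻¹)⁻¹ by group, D.bt, inv_inv]
    exact (mul_inv_eq_iff_eq_mul.mp h2).symm
  have hdN : d⁻¹ ∈ D.N := D.mem_N fun y hy => by
    rw [inv_inv]
    rcases hy with rfl | rfl | rfl
    · refine (Subgroup.zpowers_le.mpr D.a_E) (A.fix_v (hback _ D.h_E) D.aQ D.ao (hpow _ D.h_E) ?_ D.av)
      have := (hconj (show Commute H.h H.t from H.ht)).eq
      rwa [hs2] at this
    · refine (Subgroup.zpowers_le.mpr D.h_E) (A.fix_t (hback _ D.a_E) (hpow _ D.a_E) ?_)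
      have := (hconj (show Commute D.a H.v from D.av)).eq
      rwa [hs1] at this
    · refine (Subgroup.zpowers_le.mpr D.b_E) (A.fix_tv (hback _ D.b_E) D.bQ D.bo (hpow _ D.b_E) ?_ hbtv)
      have := (hconj (show Commute D.b (H.t * H.v) from hbtv)).eq
      rwa [htv] at this
  exact ⟨d, inv_mem_iff.mp hdN, hdt⟩

end AxQ.Frame

namespace Axis

/-- An odd prime of the axis does not divide the index of the involution centraliser. -/
theorem not_dvd_index (H : Axis G l) (hl2 : l ≠ 2) : ¬ l ∣ (Subgroup.centralizer ({H.t} : Set G)).index := by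
  haveI : Fact (Nat.Prime 2) := ⟨Nat.prime_two⟩
  obtain ⟨O, hOc, hOo, hOall⟩ := H.exists_O hl2
  set S := Subgroup.zpowers H.v ⊔ Subgroup.zpowers H.τ with hS
  have hOinv : ∀ {s : G}, (s * H.h * s⁻¹ = H.h ∨ s * H.h * s⁻¹ = H.h⁻¹) → ∀ x ∈ O, s * x * s⁻¹ ∈ O := by
    intro s hs x hx
    have hx' : Commute x H.h := Subgroup.mem_centralizer_singleton_iff.mp (hOc hx)
    refine hOall _ ?_ ?_
    · have e : Commute (s * x * s⁻¹) (s * H.h * s⁻¹) := hx'.map (MulAut.conj s).toMonoidHom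
      rcases hs with h | h
      · exact (h ▸ e).eq
      · exact (Commute.inv_right_iff.mp (h ▸ e)).eq
    · rw [show s * x * s⁻¹ = (MulAut.conj s) x from rfl, MulEquiv.orderOf_eq]
      exact hOo.of_dvd_nat (Subgroup.orderOf_dvd_natCard O hx)
  have hSN : S ≤ Subgroup.normalizer (O : Set G) :=
    sup_le ((Subgroup.zpowers_le).mpr (Subgroup.mem_normalizer_fintype (hOinv (Or.inr H.vh))))
      ((Subgroup.zpowers_le).mpr (Subgroup.mem_normalizer_fintype
        (hOinv (Or.inl (by rw [H.τh, mul_inv_cancel_right])))))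
  have hcop : (Nat.card S).Coprime (Nat.card O) := by
    obtain ⟨n, hn⟩ := IsPGroup.iff_card.mp H.two_group
    rw [hn]; exact (Nat.coprime_two_left.mpr hOo).pow_left n
  obtain ⟨P, hP⟩ := CfsgLib.coprime_exists_invariant_sylow hSN hcop (Or.inl (by
    haveI := H.two_group.isNilpotent
    infer_instance)) l
  set Q := (P : Subgroup O).map O.subtype with hQdef
  have hQO : Q ≤ O := Subgroup.map_subtype_le _
  have hQp : IsPGroup l Q := P.2.map _
  have hQc : Nat.card Q = l ^ (Nat.card O).factorization l := by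
    rw [hQdef, Subgroup.card_map_of_injective O.subtype_injective, P.card_eq_multiplicity]
  have hQh : ∀ x ∈ Q, x * H.h = H.h * x := fun x hx => Subgroup.mem_centralizer_singleton_iff.mp (hOc (hQO hx))
  -- `Q` is maximal among the `l`-subgroups of `C(h)`
  have hmax : ∀ R : Subgroup G, Q ≤ R → IsPGroup l R → (∀ x ∈ R, x * H.h = H.h * x) → R = Q := by
    intro R hQR hR hRh
    obtain ⟨n, hn⟩ := IsPGroup.iff_card.mp hR
    have hRO : R ≤ O := fun x hx =>
      hOall x (hRh x hx) (CfsgLib.SuzukiRankOne.odd_orderOf_of_pgroup (hl.out.odd_of_ne_two hl2) hR hx)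
    have h1 := Subgroup.card_dvd_of_le hRO
    rw [hn, hl.out.pow_dvd_iff_le_factorization Nat.card_pos.ne'] at h1
    exact (Subgroup.eq_of_le_of_card_ge hQR (by rw [hn, hQc]; exact Nat.pow_le_pow_right hl.out.pos h1)).symm
  have hhQ : H.h ∈ Q := by
    have hle : Q ≤ Subgroup.normalizer (Subgroup.zpowers H.h : Set G) := fun x hx =>
      Subgroup.centralizer_le_normalizer _ (Subgroup.mem_centralizer_iff.mpr fun y hy => by
        obtain ⟨i, rfl⟩ := Subgroup.mem_zpowers_iff.mp hy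
        exact ((show Commute H.h x from (hQh x hx).symm).zpow_left i).eq)
    have hp : IsPGroup l ↥(Q ⊔ Subgroup.zpowers H.h : Subgroup G) := IsPGroup.to_sup_of_normal_right' hQp
      (IsPGroup.of_card (n := 1) (by rw [Nat.card_zpowers, H.hord, pow_one])) hle
    have hcen : Q ⊔ Subgroup.zpowers H.h ≤ Subgroup.centralizer {H.h} :=
      sup_le (fun x hx => Subgroup.mem_centralizer_singleton_iff.mpr (hQh x hx))
        ((Subgroup.zpowers_le).mpr (Subgroup.mem_centralizer_singleton_iff.mpr rfl))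
    rw [← hmax _ le_sup_left hp (fun x hx => Subgroup.mem_centralizer_singleton_iff.mp (hcen hx))]
    exact Subgroup.mem_sup_right (Subgroup.mem_zpowers _)
  have hinv : ∀ s ∈ S, ∀ x ∈ Q, s * x * s⁻¹ ∈ Q := fun s hs x hx =>
    (Subgroup.mem_normalizer_iff.mp (hP hs) x).mp hx
  by_cases hcase : ∀ x ∈ Q, x * H.t = H.t * x
  swap
  · push Not at hcase
    let A : AxQ H :=
      { hl2 := hl2, Q := Q, pQ := hQp, Qh := hQh, hQ := hhQ
        Qv := hinv _ (Subgroup.mem_sup_left (Subgroup.mem_zpowers _))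
        Qτ := hinv _ (Subgroup.mem_sup_right (Subgroup.mem_zpowers _))
        notle := hcase }
    obtain ⟨D⟩ := A.exists_frame
    obtain ⟨d, hd, hdt⟩ := D.exists_d hOc hOo hOall hQc
    exact (D.false_of_swap hd hdt).elim
  -- otherwise a Sylow subgroup of `G` lies in `C(t)`
  haveI hcyc : IsCyclic Q := H.cyc Q hQp hcase
  obtain ⟨L, hL⟩ := hQp.exists_le_sylow
  suffices hLQ : (L : Subgroup G) = Q by
    intro hdvd
    have hle : (L : Subgroup G) ≤ Subgroup.centralizer {H.t} :=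
      hLQ ▸ fun x hx => Subgroup.mem_centralizer_singleton_iff.mpr (hcase x hx)
    exact L.not_dvd_index (hdvd.trans (Subgroup.index_dvd_of_le hle))
  by_contra hne
  haveI : Group.IsNilpotent ↥(L : Subgroup G) := L.2.isNilpotent
  have htop : Q.subgroupOf L ≠ ⊤ := fun e => hne (le_antisymm (Subgroup.subgroupOf_eq_top.mp e) hL)
  obtain ⟨⟨g, hgL⟩, hgN, hgQ⟩ := SetLike.exists_of_lt
    (Group.normalizerCondition_of_isNilpotent (Q.subgroupOf L) (lt_top_iff_ne_top.mpr htop))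
  have hgQn : ∀ x ∈ Q, g * x * g⁻¹ ∈ Q := fun x hx =>
    (Subgroup.mem_normalizer_iff.mp hgN ⟨x, hL hx⟩).mp hx
  obtain ⟨e, he⟩ := L.2 ⟨g, hgL⟩
  have hgh : g * H.h * g⁻¹ ∈ Subgroup.zpowers H.h :=
    mem_zpowers_of_cyclic hcyc (hgQn _ hhQ) hhQ H.hord (by rw [conj_pow, H.h_pow]; group)
  have hgc : Commute g H.h :=
    CfsgLib.SuzukiRankOne.comm_of_pow_norm hl.out H.hord (e := e) (by simpa using congrArg Subtype.val he) hgh
  have hR : Q ⊔ Subgroup.zpowers g ≤ Subgroup.centralizer {H.h} :=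
    sup_le (fun x hx => Subgroup.mem_centralizer_singleton_iff.mpr (hQh x hx))
      ((Subgroup.zpowers_le).mpr (Subgroup.mem_centralizer_singleton_iff.mpr hgc.eq))
  have hRQ := hmax _ le_sup_left (L.2.to_le (sup_le hL ((Subgroup.zpowers_le).mpr hgL)))
    (fun x hx => Subgroup.mem_centralizer_singleton_iff.mp (hR hx))
  exact hgQ (hRQ ▸ Subgroup.mem_sup_right (Subgroup.mem_zpowers g) : g ∈ Q)

end Axis

end CfsgLib.GU2Cent
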