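import Cfsg.Agent.Lib.GL2Cent.Arith

/-!
Arithmetic of the order formula for an involution centraliser `GU2(q)/Z` with semidihedral Sylow 2-subgroups: the
index `M` of the centraliser is `q ^ 2 * (q ^ 2 - q + 1)`.
-/

set_option autoImplicit false

namespace CfsgLib.GU2Cent.Arith

open CfsgLib.GL2Cent.Arith (core exists_split)

/-- The divisor analysis when `p` does not divide `D`. -/
theorem regular_case {q D g : ℤ} (hq : 3 ≤ q) (hqo : Odd q) (hD : D ∣ q ^ 2 - 1) (hg : Odd g)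
    (h : (q * (q - 1) + D) * g = (q - 1) ^ 2) : D = 1 - q := by
  obtain ⟨j, hj⟩ := hD
  rcases eq_or_ne g 1 with rfl | hg1
  · linear_combination h
  exfalso
  have hD2 : |D| ≤ q ^ 2 - 1 := Int.le_of_dvd (by nlinarith) ((abs_dvd D _).mpr ⟨j, hj⟩)
  obtain ⟨hlo, hhi⟩ := abs_le.mp hD2
  obtain ⟨k, hk⟩ := hg
  rcases eq_or_ne g (-1) with rfl | hgm
  · nlinarith
  have hsmall : 3 * (q * (q - 1) + D) ≤ (q - 1) ^ 2 := by
    rcases le_or_gt (q * (q - 1) + D) 0 with hf | hf
    · nlinarith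
    · have hg3 : 3 ≤ g := by
        have : 0 < g := by
          by_contra hh
          nlinarith [mul_nonpos_of_nonneg_of_nonpos hf.le (not_lt.mp hh)]
        omega
      nlinarith [mul_le_mul_of_nonneg_left hg3 hf.le]
  have hDneg : D < 0 := by nlinarith
  rcases lt_trichotomy j (-1) with hj2 | rfl | hj2
  · have : (-D) * 2 ≤ (-D) * (-j) := mul_le_mul_of_nonneg_left (by omega) (by omega)
    nlinarith
  · have hDe : D = 1 - q ^ 2 := by linear_combination hj
    subst hDe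
    have hgq : g = 1 - q := mul_left_cancel₀ (show 1 - q ≠ 0 by omega) (by linear_combination h)
    obtain ⟨l, hl⟩ := hqo
    omega
  · nlinarith [mul_nonpos_of_nonpos_of_nonneg hDneg.le (show 0 ≤ j by omega)]

/-- The index in the semidihedral case: the known series, or `q = 5` and `357`. -/
theorem qd_index5 {p n : ℕ} (hp : p.Prime) (hn : 1 ≤ n) {q : ℤ} (hq : q = (p : ℤ) ^ n) (hq5 : 5 ≤ q) (hqo : Odd q)
    {M B C : ℤ} (hM : Odd M) (hB0 : B ≠ 0) (hB1 : B ≠ 1) (hC : C * (q ^ 2 - B) = q ^ 2 * (B - 1))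
    (heq : M * (B - q) ^ 2 = q * (q - 1) ^ 3 * B * (B - 1))
    (hpM : (p : ℤ) ∣ M → q ^ 2 ∣ M)
    (hl : ∀ l : ℕ, l.Prime → l ≠ 2 → (l : ℤ) ∣ q - 1 → ¬ (l : ℤ) ∣ M) :
    M = q ^ 2 * (q ^ 2 - q + 1) ∨ (q = 5 ∧ M = 357) := by
  have hpp : Prime (p : ℤ) := Nat.prime_iff_prime_int.mp hp
  have hp0 : (p : ℤ) ≠ 0 := by simpa using hp.ne_zero
  have hpq : (p : ℤ) ∣ q := hq ▸ dvd_pow_self _ (by omega)
  have hq0 : q ≠ 0 := by omega
  have hs0 : 1 - q ≠ 0 := by omega
  have hps : ¬ (p : ℤ) ∣ q - 1 := fun h => hpp.not_dvd_one (by simpa using dvd_sub hpq h)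
  have hps3 : ¬ (p : ℤ) ∣ (q - 1) ^ 3 := fun h => hps (hpp.dvd_of_dvd_pow h)
  have hf0 : B - q ≠ 0 := fun h => by
    rw [h] at heq
    simp [hq0, sub_eq_zero, hB0, hB1, show q ≠ 1 by omega] at heq
  obtain ⟨D, rfl⟩ : ∃ D, B = q ^ 2 + D := ⟨B - q ^ 2, by ring⟩
  have hD0 : D ≠ 0 := fun h => by
    subst h
    simp [hq0, sub_eq_zero] at hC
    exact hB1 (by simpa using hC)
  have hDdvd : D ∣ q ^ 2 * (q ^ 2 - 1) := ⟨-C - q ^ 2, by linear_combination -hC⟩
  obtain ⟨i, d, hDd, hpd⟩ := exists_split hp hD0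
  have hi2 : i ≤ 2 * n := by
    by_contra h
    have h1 : (p : ℤ) ^ (2 * n) * p ∣ q ^ 2 * (q ^ 2 - 1) := by
      rw [← pow_succ]
      exact (pow_dvd_pow _ (by omega)).trans ((dvd_mul_right _ d).trans (hDd ▸ hDdvd))
    rw [show q ^ 2 = (p : ℤ) ^ (2 * n) by rw [hq, ← pow_mul, mul_comm]] at h1
    have h2 := (mul_dvd_mul_iff_left (pow_ne_zero _ hp0)).mp h1
    exact hpp.not_dvd_one (by simpa using dvd_sub (dvd_pow_self (p : ℤ) (show 2 * n ≠ 0 by omega)) h2)
  have copq : ∀ x : ℤ, ¬ (p : ℤ) ∣ x → IsCoprime q x := fun x hx => by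
    rw [hq]; exact (hpp.coprime_iff_not_dvd.mpr hx).pow_left
  have hd1 : d ∣ q ^ 2 - 1 := by
    refine (IsCoprime.pow_right (n := 2) (copq d hpd).symm).dvd_of_dvd_mul_left ?_
    exact (dvd_mul_left d _).trans (hDd ▸ hDdvd)
  -- a `p`-part strictly between one and `q ^ 2`
  have middle : ∀ {F U : ℤ} {j : ℕ}, ¬ (p : ℤ) ∣ F → ¬ (p : ℤ) ∣ U → 0 < j → j < 2 * n →
      M * F ^ 2 = (p : ℤ) ^ j * U → False := fun {F U j} hF hU hj hjn h => by
    have hpM' : (p : ℤ) ∣ M :=
      (hpp.dvd_or_dvd (h ▸ (dvd_pow_self _ hj.ne').mul_right U : (p : ℤ) ∣ M * F ^ 2)).resolve_right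
        fun h' => hF (hpp.dvd_of_dvd_pow h')
    refine hU (((mul_dvd_mul_iff_left (pow_ne_zero j hp0)).mp ?_))
    rw [← pow_succ, ← h]
    refine ((pow_dvd_pow _ (show j + 1 ≤ n * 2 by omega)).trans ?_).mul_right _
    rw [pow_mul, ← hq]
    exact hpM hpM'
  rcases lt_trichotomy i n with hin | rfl | hin
  · rcases Nat.eq_zero_or_pos i with rfl | hi0
    · -- `p` prime to `D`
      simp only [pow_zero, one_mul] at hDd
      subst hDd
      have hfp : ¬ (p : ℤ) ∣ q * (q - 1) + D := fun h => hpd (by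
        simpa using dvd_sub h (hpq.mul_right (q - 1)))
      have hcq : IsCoprime (q * (q - 1) + D) q := (copq _ hfp).symm
      have hfB : IsCoprime (q * (q - 1) + D) (q ^ 2 + D) := by
        have h2 := hcq.add_mul_left_right 1
        rwa [show q + (q * (q - 1) + D) * 1 = q ^ 2 + D by ring] at h2
      obtain ⟨g, hg, hfg⟩ := core (s := 1 - q) (f := q * (q - 1) + D) (X := -(q * (q ^ 2 + D)))
        (Y := q ^ 2 + D - 1) hs0 hM (by linear_combination heq) ((hcq.mul_right hfB).neg_right) ⟨1, by ring⟩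
      have hD' := regular_case (by omega) hqo hd1 hg (by rw [hfg]; ring)
      subst hD'
      left
      refine mul_right_cancel₀ (pow_ne_zero 2 (pow_ne_zero 2 (show q - 1 ≠ 0 by omega))) ?_
      linear_combination heq
    · obtain ⟨r, hr⟩ : ∃ r, n = i + r := ⟨n - i, by omega⟩
      have hqi : q = (p : ℤ) ^ i * (p : ℤ) ^ r := by rw [hq, hr, pow_add]
      have hpr : (p : ℤ) ∣ (p : ℤ) ^ r := dvd_pow_self _ (by omega)
      refine (middle (F := (p : ℤ) ^ r * (q - 1) + d) (U := (q - 1) ^ 3 * (q * (p : ℤ) ^ r + d) * (q ^ 2 + D - 1))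
        (j := r) (fun h => hpd (by simpa using dvd_sub h (hpr.mul_right (q - 1)))) (fun h => ?_)
        (by omega) (by omega) ?_).elim
      · rcases hpp.dvd_or_dvd h with h | h
        · rcases hpp.dvd_or_dvd h with h | h
          · exact hps3 h
          · exact hpd (by simpa using dvd_sub h (hpr.mul_left q))
        · have hd2 : (p : ℤ) ∣ q ^ 2 + D := dvd_add (dvd_pow hpq two_ne_zero)
            (hDd ▸ (dvd_pow_self _ hi0.ne').mul_right d)
          exact hpp.not_dvd_one (by simpa using dvd_sub hd2 h)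
      · refine mul_left_cancel₀ (pow_ne_zero 2 (pow_ne_zero i hp0)) ?_
        rw [hDd, hqi] at heq ⊢
        linear_combination heq
  · -- `D = q d`
    rw [← hq] at hDd
    subst hDd
    set e := q - 1 + d with he
    have heX : IsCoprime e (-(e + 1)) := (show IsCoprime e (e + 1) from ⟨-1, 1, by ring⟩).neg_right
    have hNe : M * e ^ 2 = (q - 1) ^ 3 * (e + 1) * (q * e + q - 1) :=
      mul_left_cancel₀ (pow_ne_zero 2 hq0) (by rw [he]; linear_combination heq)
    obtain ⟨g, hg, heg⟩ := core (s := 1 - q) (f := e) (X := -(e + 1)) (Y := q * e + q - 1) hs0 hM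
      (by rw [hNe]; ring) heX ⟨q, by ring⟩
    have he0 : e ≠ 0 := fun h => by
      rw [h, zero_mul] at heg
      exact hs0 (pow_eq_zero_iff two_ne_zero |>.mp heg.symm)
    have hMg : M = ((q - 1) ^ 2 + g) * (q * (q - 1) + g) := by
      refine mul_right_cancel₀ (pow_ne_zero 2 he0) ?_
      linear_combination hNe - ((q - 1) ^ 2 * e + (q * (q - 1)) * e + (1 - q) ^ 2 + e * g) * heg
    have hg1 : g.natAbs = 1 := by
      by_contra hne
      obtain ⟨l, hl', hlg⟩ := Nat.exists_prime_and_dvd hne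
      have hlg' : (l : ℤ) ∣ g := Int.natCast_dvd.mpr hlg
      have hl2 : l ≠ 2 := by
        rintro rfl
        exact Int.not_even_iff_odd.mpr hg (even_iff_two_dvd.mpr hlg')
      have hlp : Prime (l : ℤ) := Nat.prime_iff_prime_int.mp hl'
      have hlq : (l : ℤ) ∣ q - 1 := by
        have h1 : (l : ℤ) ∣ (1 - q) ^ 2 := heg ▸ hlg'.mul_left e
        have h2 := (dvd_neg (α := ℤ)).mpr (hlp.dvd_of_dvd_pow h1)
        rwa [neg_sub] at h2
      refine hl l hl' hl2 hlq (hMg ▸ Dvd.dvd.mul_right ?_ _)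
      exact dvd_add (dvd_pow hlq two_ne_zero) hlg'
    have hde : d = e - (q - 1) := by rw [he]; ring
    rcases Int.natAbs_eq g with h | h <;> rw [hg1] at h <;> rw [h] at hMg heg <;> push_cast at hMg heg
    · right
      have hd2 : (q - 1) * (q - 2) ∣ (q - 1) * (q + 1) := by
        rw [show (q - 1) * (q - 2) = d by linear_combination -hde - heg, show (q - 1) * (q + 1) = q ^ 2 - 1 by ring]
        exact hd1
      have h3 := dvd_sub ((mul_dvd_mul_iff_left (show q - 1 ≠ 0 by omega)).mp hd2) (dvd_refl (q - 2))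
      rw [show q + 1 - (q - 2) = 3 by ring] at h3
      have h5 : q = 5 := by
        have := Int.le_of_dvd (by norm_num) h3
        omega
      subst h5
      exact ⟨rfl, by rw [hMg]; norm_num⟩
    · refine absurd ?_ hpd
      rw [show d = q * (1 - q) by linear_combination hde - heg]
      exact hpq.mul_right _
  · obtain ⟨r, hr⟩ : ∃ r, i = n + r := ⟨i - n, by omega⟩
    have hDr : D = q * (p : ℤ) ^ r * d := by rw [hDd, hr, pow_add, hq]
    rcases lt_or_eq_of_le hi2 with hlt | heq2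
    · obtain ⟨k, hk⟩ : ∃ k, n = r + k := ⟨n - r, by omega⟩
      have hqk : q = (p : ℤ) ^ r * (p : ℤ) ^ k := by rw [hq, hk, pow_add]
      have hpk : (p : ℤ) ∣ (p : ℤ) ^ k := dvd_pow_self _ (by omega)
      have hprr : (p : ℤ) ∣ (p : ℤ) ^ r := dvd_pow_self _ (by omega)
      refine (middle (F := q - 1 + (p : ℤ) ^ r * d) (U := (q - 1) ^ 3 * ((p : ℤ) ^ k + d) * (q ^ 2 + D - 1))
        (j := r) (fun h => hps (by simpa using dvd_sub h (hprr.mul_right d))) (fun h => ?_)
        (by omega) (by omega) ?_).elim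
      · rcases hpp.dvd_or_dvd h with h | h
        · rcases hpp.dvd_or_dvd h with h | h
          · exact hps3 h
          · exact hpd (by simpa using dvd_sub h hpk)
        · have hd2 : (p : ℤ) ∣ q ^ 2 + D := dvd_add (dvd_pow hpq two_ne_zero)
            (hDr ▸ (hpq.mul_right _).mul_right d)
          exact hpp.not_dvd_one (by simpa using dvd_sub hd2 h)
      · refine mul_left_cancel₀ (pow_ne_zero 2 hq0) ?_
        rw [hDr] at heq ⊢
        rw [hqk] at heq ⊢
        linear_combination heq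
    · have hD2 : D = q ^ 2 * d := by rw [hDd, heq2, hq, ← pow_mul, mul_comm n]
      subst hD2
      set f := q * (1 + d) - 1 with hf
      have hfp : ¬ (p : ℤ) ∣ f := fun h => hpp.not_dvd_one (by
        simpa [hf] using dvd_sub (hpq.mul_right (1 + d)) h)
      have hNf : M * f ^ 2 = q * (1 + d) * ((q - 1) ^ 3 * (q ^ 2 * (1 + d) - 1)) :=
        mul_left_cancel₀ (pow_ne_zero 2 hq0) (by rw [hf]; linear_combination heq)
      have hcf : IsCoprime f (-(q * (1 + d))) :=
        (show IsCoprime f (q * (1 + d)) from ⟨-1, 1, by rw [hf]; ring⟩).neg_right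
      obtain ⟨g, hg, hfg⟩ := core (s := 1 - q) (f := f) (X := -(q * (1 + d))) (Y := q ^ 2 * (1 + d) - 1)
        hs0 hM (by rw [hNf]; ring) hcf ⟨q, by rw [hf]; ring⟩
      have hpM' : (p : ℤ) ∣ M := by
        have h1 : (p : ℤ) ∣ M * f ^ 2 := by rw [hNf]; exact (hpq.mul_right _).mul_right _
        exact (hpp.dvd_or_dvd h1).resolve_right fun h => hfp (hpp.dvd_of_dvd_pow h)
      have hu : q ∣ 1 + d := by
        have h1 : q * q ∣ q * ((1 + d) * ((q - 1) ^ 3 * (q ^ 2 * (1 + d) - 1))) := by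
          rw [← mul_assoc q (1 + d), ← hNf, ← pow_two]
          exact (hpM hpM').mul_right _
        refine IsCoprime.dvd_of_dvd_mul_right ?_ ((mul_dvd_mul_iff_left hq0).mp h1)
        refine copq _ fun h => ?_
        rcases hpp.dvd_or_dvd h with h | h
        · exact hps3 h
        · exact hpp.not_dvd_one (by simpa using dvd_sub ((dvd_pow hpq two_ne_zero).mul_right (1 + d)) h)
      obtain ⟨u, hu'⟩ := hu
      have hle : |f| ≤ (q - 1) ^ 2 := by
        refine Int.le_of_dvd (by nlinarith) ((abs_dvd f _).mpr ⟨g, ?_⟩)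
        rw [hfg]; ring
      obtain ⟨hlo, hhi⟩ := abs_le.mp hle
      rw [hf, hu'] at hlo hhi
      have hu0 : u ≠ 0 := fun h => by
        rw [h, mul_zero] at hu'
        exact hB0 (by linear_combination q ^ 2 * hu')
      rcases lt_or_gt_of_ne hu0 with hu2 | hu2
      · exfalso; nlinarith [mul_le_mul_of_nonneg_left (show u ≤ -1 by omega) (mul_self_nonneg q)]
      · exfalso; nlinarith [mul_le_mul_of_nonneg_left (show 1 ≤ u by omega) (mul_self_nonneg q)]

/-- The index in the semidihedral case, given a lower bound. -/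
theorem qd_index {p n : ℕ} (hp : p.Prime) (hn : 1 ≤ n) {q : ℤ} (hq : q = (p : ℤ) ^ n) (hq5 : 5 ≤ q) (hqo : Odd q)
    {M B C : ℤ} (hM : Odd M) (hB0 : B ≠ 0) (hB1 : B ≠ 1) (hC : C * (q ^ 2 - B) = q ^ 2 * (B - 1))
    (heq : M * (B - q) ^ 2 = q * (q - 1) ^ 3 * B * (B - 1))
    (hpM : (p : ℤ) ∣ M → q ^ 2 ∣ M)
    (hl : ∀ l : ℕ, l.Prime → l ≠ 2 → (l : ℤ) ∣ q - 1 → ¬ (l : ℤ) ∣ M)
    (hbig : (q ^ 2 - q) * (q ^ 2 - q - 1) + 1 ≤ M) : M = q ^ 2 * (q ^ 2 - q + 1) :=
  (qd_index5 hp hn hq hq5 hqo hM hB0 hB1 hC heq hpM hl).resolve_right fun ⟨h5, h⟩ => by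
    rw [h5, h] at hbig; norm_num at hbig

end CfsgLib.GU2Cent.Arith
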