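import Cfsg.Agent.Lib.Coprime
import Cfsg.Agent.Lib.Involutions
import Cfsg.Agent.Lib.SuzukiRankOne.TransferTools

/-!
The configuration at an odd prime `l` dividing `q - 1` in a group with an involution centraliser `GU₂(q)/Z`:
an element `h` of order `l` whose centraliser inside `C(t)` is an abelian group `T` extended by an inverting
involution `v`.
-/

set_option autoImplicit false
set_option linter.unusedSectionVars false
set_option linter.style.haveILetI false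

namespace CfsgLib.GU2Cent

universe u

variable {G : Type u} [Group G]

/-- An involution fixes the product of an element with a square root of the twist. -/
theorem exists_fix_twist {s g : G} (hs : s * s = 1) (ho : Odd (orderOf (g⁻¹ * (s * g * s)))) :
    ∃ k : ℕ, s * (g⁻¹ * (s * g * s)) ^ k * s = ((g⁻¹ * (s * g * s)) ^ k)⁻¹ ∧
      Commute (g * (g⁻¹ * (s * g * s)) ^ k) s := by
  set m := g⁻¹ * (s * g * s) with hm
  obtain ⟨k, hk⟩ := CfsgLib.Involutions.exists_sqrt ho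
  have hsi : s⁻¹ = s := inv_eq_of_mul_eq_one_right hs
  have h1 : s * m * s = m⁻¹ := by
    rw [hm]
    calc s * (g⁻¹ * (s * g * s)) * s = s * g⁻¹ * s * g * (s * s) := by group
      _ = s * g⁻¹ * s * g := by rw [hs, mul_one]
      _ = (g⁻¹ * (s⁻¹ * g * s⁻¹))⁻¹ := by group
      _ = _ := by rw [hsi]
  have h2 : s * m ^ k * s = (m ^ k)⁻¹ := by
    have h3 := conj_pow (i := k) (a := s) (b := m)
    rw [hsi] at h3
    rw [← h3, h1, inv_pow]
  refine ⟨k, h2, ?_⟩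
  have h4 : s * (g * m ^ k) * s = g * m ^ k := by
    calc s * (g * m ^ k) * s = s * g * (s * s) * m ^ k * s := by rw [hs, mul_one]; group
      _ = (g * m) * (s * m ^ k * s) := by rw [hm]; group
      _ = g * (m ^ k * m ^ k) * (m ^ k)⁻¹ := by rw [h2, hk]
      _ = g * m ^ k := by group
  show g * m ^ k * s = s * (g * m ^ k)
  calc g * m ^ k * s = s * (g * m ^ k) * s * s := by rw [h4]
    _ = _ := by rw [mul_assoc _ s s, hs, mul_one]

/-- A group with cyclic Sylow `2`-subgroups has an odd core containing all its elements of odd order. -/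
theorem exists_odd_core [Finite G] {C : Subgroup G} (P : Sylow 2 C) (hP : IsCyclic ↥(P : Subgroup C)) :
    ∃ O : Subgroup G, O ≤ C ∧ Odd (Nat.card O) ∧ ∀ x ∈ C, Odd (orderOf x) → x ∈ O := by
  haveI : Fact (Nat.Prime 2) := ⟨Nat.prime_two⟩
  by_cases hC : 2 ∣ Nat.card C
  · have hmin : (Nat.card C).minFac = 2 := (Nat.minFac_eq_two_iff _).mpr hC
    set K := (MonoidHom.transferSylow P (IsCyclic.normalizer_le_centralizer hmin hP)).ker with hK
    have hc : K.IsComplement' (P : Subgroup C) := IsCyclic.isComplement' hmin hP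
    refine ⟨K.map C.subtype, Subgroup.map_subtype_le _, ?_, fun x hx ho => ⟨⟨x, hx⟩, ?_, rfl⟩⟩
    · rw [Subgroup.card_map_of_injective C.subtype_injective, ← hc.index_eq_card]
      exact Nat.odd_iff.mpr (Nat.two_dvd_ne_zero.mp P.not_dvd_index)
    · show _ ∈ K
      rw [hK, MonoidHom.mem_ker, ← orderOf_eq_one_iff]
      obtain ⟨j, hj⟩ := (IsPGroup.iff_orderOf).mp P.2
        (MonoidHom.transferSylow P (IsCyclic.normalizer_le_centralizer hmin hP) ⟨x, hx⟩)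
      have hd := orderOf_map_dvd (MonoidHom.transferSylow P (IsCyclic.normalizer_le_centralizer hmin hP))
        (⟨x, hx⟩ : C)
      rw [hj, Subgroup.orderOf_mk] at hd
      rw [hj]
      exact Nat.eq_one_of_dvd_coprimes ((Nat.coprime_two_left.mpr ho).pow_left j) dvd_rfl hd
  · exact ⟨C, le_rfl, Nat.not_even_iff_odd.mp fun h => hC h.two_dvd, fun x hx _ => hx⟩

/-- In a cyclic group an element killed by `l` is a power of any element of order `l`. -/
theorem mem_zpowers_of_cyclic [Finite G] {l : ℕ} {P : Subgroup G} (hP : IsCyclic P) {x y : G}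
    (hx : x ∈ P) (hy : y ∈ P) (hyl : orderOf y = l) (hxl : x ^ l = 1) : x ∈ Subgroup.zpowers y := by
  classical
  haveI := hP
  haveI : Fintype P := Fintype.ofFinite P
  have hl0 : 0 < l := hyl ▸ orderOf_pos y
  have hsub : (Finset.range l).image (fun i => (⟨y, hy⟩ : P) ^ i) ⊆
      Finset.univ.filter (fun z : P => z ^ l = 1) := fun z hz => by
    obtain ⟨i, -, rfl⟩ := Finset.mem_image.mp hz
    refine Finset.mem_filter.mpr ⟨Finset.mem_univ _, Subtype.ext ?_⟩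
    rw [SubmonoidClass.coe_pow, SubmonoidClass.coe_pow, OneMemClass.coe_one, ← pow_mul, mul_comm, pow_mul, ← hyl,
      pow_orderOf_eq_one, one_pow]
  have hcard : ((Finset.range l).image fun i => (⟨y, hy⟩ : P) ^ i).card = l := by
    rw [Finset.card_image_of_injOn, Finset.card_range]
    intro i hi j hj e
    refine pow_injOn_Iio_orderOf (x := y) ?_ ?_ (by simpa using congrArg Subtype.val e)
    · simpa [hyl] using hi
    · simpa [hyl] using hj
  have heq := Finset.eq_of_subset_of_card_le hsub ((IsCyclic.card_pow_eq_one_le hl0).trans hcard.ge)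
  have hm : (⟨x, hx⟩ : P) ∈ (Finset.range l).image (fun i => (⟨y, hy⟩ : P) ^ i) :=
    heq ▸ Finset.mem_filter.mpr ⟨Finset.mem_univ _, Subtype.ext (by simpa using hxl)⟩
  obtain ⟨i, -, hi⟩ := Finset.mem_image.mp hm
  have e : y ^ i = x := by simpa using congrArg Subtype.val hi
  exact e ▸ Subgroup.npow_mem_zpowers y i

/-- The configuration. -/
structure Axis (G : Type u) [Group G] (l : ℕ) where
  t : G
  v : G
  h : G
  τ : G
  T : Subgroup G
  c : ℕ
  hc : 3 ≤ c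
  tt : t * t = 1
  t_ne : t ≠ 1
  vv : v * v = 1
  tv : t * v = v * t
  hord : orderOf h = l
  ht : h * t = t * h
  vh : v * h * v⁻¹ = h⁻¹
  memT : ∀ x : G, x ∈ T ↔ x * t = t * x ∧ x * h = h * x
  Tcomm : ∀ x ∈ T, ∀ y ∈ T, x * y = y * x
  τT : τ ∈ T
  τord : orderOf τ = 2 ^ c
  τt : τ ^ 2 ^ (c - 1) = t
  vτ : v * τ * v⁻¹ = τ⁻¹ * t
  Tdec : ∀ x ∈ T, ∃ i : ℕ, Odd (orderOf (τ ^ i * x))
  norm : ∀ x : G, x * t = t * x → x * h * x⁻¹ ∈ Subgroup.zpowers h → x ∈ T ∨ x * v ∈ T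
  cyc : ∀ P : Subgroup G, IsPGroup l P → (∀ x ∈ P, x * t = t * x) → IsCyclic P
  exact2 : ¬ 2 ^ (c + 2) ∣ Nat.card G
  swap : ∃ g : G, g * t * g⁻¹ = v ∧ g * v * g⁻¹ = t

namespace Axis

variable [Finite G] {l : ℕ} [hl : Fact l.Prime] (H : Axis G l)

theorem h_ne : H.h ≠ 1 := fun e => hl.out.ne_one (by rw [← H.hord, e, orderOf_one])

theorem h_pow : H.h ^ l = 1 := orderOf_dvd_iff_pow_eq_one.mp H.hord.dvd

theorem vi : H.v⁻¹ = H.v := inv_eq_of_mul_eq_one_right H.vv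

theorem ti : H.t⁻¹ = H.t := inv_eq_of_mul_eq_one_right H.tt

theorem τh : H.τ * H.h = H.h * H.τ := ((H.memT _).mp H.τT).2

theorem τ_comm_t : H.τ * H.t = H.t * H.τ := ((H.memT _).mp H.τT).1

theorem v_ne (hl2 : l ≠ 2) : H.v ≠ 1 := fun e => by
  have h := H.vh
  rw [e, one_mul, inv_one, mul_one] at h
  have h2 : H.h ^ 2 = 1 := by rw [pow_two]; nth_rewrite 2 [h]; exact mul_inv_cancel _
  exact hl2 ((Nat.prime_dvd_prime_iff_eq hl.out Nat.prime_two).mp (H.hord ▸ orderOf_dvd_of_pow_eq_one h2))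

theorem vT (hl2 : l ≠ 2) : H.v ∉ H.T := fun hm => by
  have h := H.vh
  rw [((H.memT _).mp hm).2, mul_inv_cancel_right] at h
  have h2 : H.h ^ 2 = 1 := by rw [pow_two]; nth_rewrite 2 [h]; exact mul_inv_cancel _
  exact hl2 ((Nat.prime_dvd_prime_iff_eq hl.out Nat.prime_two).mp (H.hord ▸ orderOf_dvd_of_pow_eq_one h2))

/-- The torus is normalised by `v`. -/
theorem conj_v_T {x : G} (hx : x ∈ H.T) : H.v * x * H.v⁻¹ ∈ H.T := by
  obtain ⟨h1, h2⟩ := (H.memT x).mp hx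
  refine (H.memT _).mpr ⟨?_, ?_⟩
  · calc H.v * x * H.v⁻¹ * H.t = H.v * x * (H.v⁻¹ * H.t) := by group
      _ = H.v * (x * H.t) * H.v⁻¹ := by rw [H.vi, ← H.tv]; group
      _ = H.v * H.t * x * H.v⁻¹ := by rw [h1]; group
      _ = _ := by rw [← H.tv]; group
  · have e : H.h = H.v * H.h⁻¹ * H.v⁻¹ := by
      rw [show H.v * H.h⁻¹ * H.v⁻¹ = (H.v * H.h * H.v⁻¹)⁻¹ by group, H.vh, inv_inv]
    rw [e]
    show (MulAut.conj H.v) x * (MulAut.conj H.v) H.h⁻¹ = (MulAut.conj H.v) H.h⁻¹ * (MulAut.conj H.v) x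
    rw [← map_mul, ← map_mul, (Commute.inv_right h2).eq]

/-- A `2`-element of the torus is a power of `τ`. -/
theorem two_T {x : G} (hx : x ∈ H.T) {n : ℕ} (hn : x ^ 2 ^ n = 1) : x ∈ Subgroup.zpowers H.τ := by
  obtain ⟨i, hi⟩ := H.Tdec x hx
  have hτn : (H.τ ^ i) ^ 2 ^ (H.c + n) = 1 := by
    rw [← pow_mul, mul_comm, pow_mul, pow_add, pow_mul, ← H.τord, pow_orderOf_eq_one, one_pow, one_pow]
  have hxn : x ^ 2 ^ (H.c + n) = 1 := by rw [add_comm, pow_add, pow_mul, hn, one_pow]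
  have h1 : (H.τ ^ i * x) ^ 2 ^ (H.c + n) = 1 := by
    rw [(show Commute (H.τ ^ i) x from H.Tcomm _ (pow_mem H.τT i) _ hx).mul_pow, hτn, hxn, one_mul]
  have h2 : H.τ ^ i * x = 1 := orderOf_eq_one_iff.mp (Nat.eq_one_of_dvd_coprimes
    ((Nat.coprime_two_left.mpr hi).pow_left (H.c + n)) (orderOf_dvd_of_pow_eq_one h1) dvd_rfl)
  rw [eq_inv_of_mul_eq_one_right h2]
  exact inv_mem (pow_mem (Subgroup.mem_zpowers _) i)

/-- The `2`-group `⟨τ, v⟩`. -/
theorem two_group : IsPGroup 2 ↥(Subgroup.zpowers H.v ⊔ Subgroup.zpowers H.τ : Subgroup G) := by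
  haveI : Fact (Nat.Prime 2) := ⟨Nat.prime_two⟩
  refine IsPGroup.to_sup_of_normal_right' (IsPGroup.of_card_dvd_pow (n := 1) ?_)
    (IsPGroup.of_card (n := H.c) (by rw [Nat.card_zpowers, H.τord])) ?_
  · rw [Nat.card_zpowers, pow_one]; exact orderOf_dvd_of_pow_eq_one (by rw [pow_two, H.vv])
  · refine (Subgroup.zpowers_le).mpr (Subgroup.mem_normalizer_fintype fun x hx => ?_)
    obtain ⟨i, rfl⟩ := Subgroup.mem_zpowers_iff.mp hx
    show H.v * H.τ ^ i * H.v⁻¹ ∈ Subgroup.zpowers H.τ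
    rw [← conj_zpow, H.vτ, ← H.τt]
    exact zpow_mem (mul_mem (inv_mem (Subgroup.mem_zpowers _)) (pow_mem (Subgroup.mem_zpowers _) _)) i

/-- Some Sylow `2`-subgroup of `C(h)` is `⟨τ⟩`. -/
theorem sylow_two (hl2 : l ≠ 2) : ∃ P : Sylow 2 ↥(Subgroup.centralizer ({H.h} : Set G)),
    (P : Subgroup ↥(Subgroup.centralizer ({H.h} : Set G))).map (Subgroup.centralizer ({H.h} : Set G)).subtype =
      Subgroup.zpowers H.τ := by
  haveI : Fact (Nat.Prime 2) := ⟨Nat.prime_two⟩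
  set C := Subgroup.centralizer ({H.h} : Set G)
  have hτC : H.τ ∈ C := Subgroup.mem_centralizer_singleton_iff.mpr H.τh
  obtain ⟨P, hP⟩ := (IsPGroup.of_card (n := H.c) (show Nat.card (Subgroup.zpowers (⟨H.τ, hτC⟩ : C)) = 2 ^ H.c by
    rw [Nat.card_zpowers, Subgroup.orderOf_mk, H.τord])).exists_le_sylow
  refine ⟨P, ?_⟩
  set R := (P : Subgroup C).map C.subtype with hR
  have hRp : IsPGroup 2 R := P.2.map _
  have hle : Subgroup.zpowers H.τ ≤ R :=
    (Subgroup.zpowers_le).mpr ⟨⟨H.τ, hτC⟩, hP (Subgroup.mem_zpowers _), rfl⟩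
  obtain ⟨n, hn⟩ := IsPGroup.iff_card.mp hRp
  have hn1 : n ≤ H.c + 1 := by
    by_contra hlt
    exact H.exact2 ((pow_dvd_pow 2 (by omega)).trans (hn ▸ R.card_subgroup_dvd_card))
  have hcn : H.c ≤ n := by
    have := Subgroup.card_dvd_of_le hle
    rw [Nat.card_zpowers, H.τord, hn, Nat.pow_dvd_pow_iff_le_right (by norm_num)] at this
    exact this
  rcases (show n = H.c ∨ n = H.c + 1 by omega) with hnc | hnc
  · exact (Subgroup.eq_of_le_of_card_ge hle (by rw [Nat.card_zpowers, H.τord, hn, hnc])).symm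
  -- `R` normalises `⟨τ⟩`, hence centralises `t`
  have hidx : ((Subgroup.zpowers H.τ).subgroupOf R).index = 2 := by
    have h1 := Subgroup.card_mul_index ((Subgroup.zpowers H.τ).subgroupOf R)
    rw [Nat.card_congr (Subgroup.subgroupOfEquivOfLe hle).toEquiv, Nat.card_zpowers, H.τord, hn, hnc,
      pow_succ] at h1
    exact Nat.eq_of_mul_eq_mul_left (by positivity) h1
  haveI := Subgroup.normal_of_index_eq_two hidx
  refine le_antisymm (fun r hr => ?_) hle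
  have hrh : r * H.h = H.h * r := Subgroup.mem_centralizer_singleton_iff.mp (Subgroup.map_subtype_le _ hr)
  have hrτ : r * H.τ * r⁻¹ ∈ Subgroup.zpowers H.τ :=
    (inferInstance : ((Subgroup.zpowers H.τ).subgroupOf R).Normal).conj_mem
      ⟨H.τ, hle (Subgroup.mem_zpowers _)⟩ (Subgroup.mem_zpowers H.τ) ⟨r, hr⟩
  have hrt : r * H.t * r⁻¹ = H.t := by
    have h1 : r * H.t * r⁻¹ ∈ Subgroup.zpowers H.τ := by
      rw [← H.τt, ← conj_pow]; exact pow_mem hrτ _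
    have ht2 : orderOf H.t = 2 := CfsgLib.Involutions.orderOf_eq_two_iff'.2 ⟨H.tt, H.t_ne⟩
    have htτ : H.t ∈ Subgroup.zpowers H.τ := H.τt ▸ pow_mem (Subgroup.mem_zpowers _) _
    obtain ⟨i, hi⟩ := Subgroup.mem_zpowers_iff.mp (mem_zpowers_of_cyclic (l := 2) inferInstance h1 htτ ht2
      (by rw [conj_pow, pow_two, H.tt]; group))
    rcases Int.even_or_odd i with ⟨j, rfl⟩ | ⟨j, rfl⟩
    · rw [← two_mul, zpow_mul, zpow_two, H.tt, one_zpow] at hi
      exact absurd (conj_eq_one_iff.mp hi.symm) H.t_ne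
    · rw [zpow_add, zpow_mul, zpow_two, H.tt, one_zpow, one_mul, zpow_one] at hi
      exact hi.symm
  obtain ⟨m, hm⟩ := hRp ⟨r, hr⟩
  exact H.two_T ((H.memT r).mpr ⟨mul_inv_eq_iff_eq_mul.mp hrt, hrh⟩) (by simpa using congrArg Subtype.val hm)

/-- The odd core of `C(h)`. -/
theorem exists_O (hl2 : l ≠ 2) : ∃ O : Subgroup G, O ≤ Subgroup.centralizer ({H.h} : Set G) ∧ Odd (Nat.card O) ∧
    ∀ x : G, x * H.h = H.h * x → Odd (orderOf x) → x ∈ O := by
  obtain ⟨P, hP⟩ := H.sylow_two hl2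
  haveI : IsCyclic ↥(P : Subgroup ↥(Subgroup.centralizer ({H.h} : Set G))) :=
    isCyclic_of_injective (((P : Subgroup _).equivMapOfInjective (Subgroup.centralizer ({H.h} : Set G)).subtype
      (Subgroup.subtype_injective _)).trans (MulEquiv.subgroupCongr hP)).toMonoidHom (MulEquiv.injective _)
  obtain ⟨O, h1, h2, h3⟩ := exists_odd_core P inferInstance
  exact ⟨O, h1, h2, fun x hx => h3 x (Subgroup.mem_centralizer_singleton_iff.mpr hx)⟩

/-- The involutions of `C(h)` are conjugate to `t` in `C(h)`. -/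
theorem inv_conj (hl2 : l ≠ 2) {u : G} (hu : u * u = 1) (hu1 : u ≠ 1) (huh : u * H.h = H.h * u) :
    ∃ g : G, g * H.h = H.h * g ∧ g * H.t * g⁻¹ = u := by
  haveI : Fact (Nat.Prime 2) := ⟨Nat.prime_two⟩
  set C := Subgroup.centralizer ({H.h} : Set G)
  obtain ⟨P, hP⟩ := H.sylow_two hl2
  let u' : C := ⟨u, Subgroup.mem_centralizer_singleton_iff.mpr huh⟩
  obtain ⟨P', hP'⟩ := (IsPGroup.of_card_dvd_pow (n := 1) (show Nat.card (Subgroup.zpowers u') ∣ 2 ^ 1 by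
    rw [Nat.card_zpowers, pow_one]
    exact orderOf_dvd_of_pow_eq_one (Subtype.ext (show u ^ 2 = 1 by rw [pow_two, hu])))).exists_le_sylow
  obtain ⟨g, hg⟩ := MulAction.exists_smul_eq C P P'
  have h1 : u' ∈ (P' : Subgroup C) := hP' (Subgroup.mem_zpowers _)
  rw [← hg, Sylow.coe_subgroup_smul, Subgroup.mem_pointwise_smul_iff_inv_smul_mem] at h1
  have h2 : (g : G)⁻¹ * u * g ∈ Subgroup.zpowers H.τ := by
    rw [← hP]
    exact ⟨_, h1, by simp [MulAut.smul_def, u', mul_assoc]⟩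
  have ht2 : orderOf H.t = 2 := CfsgLib.Involutions.orderOf_eq_two_iff'.2 ⟨H.tt, H.t_ne⟩
  obtain ⟨i, hi⟩ := Subgroup.mem_zpowers_iff.mp (mem_zpowers_of_cyclic (l := 2) inferInstance h2
    (H.τt ▸ pow_mem (Subgroup.mem_zpowers _) _ : H.t ∈ Subgroup.zpowers H.τ) ht2
    (by rw [pow_two, show (g : G)⁻¹ * u * g * ((g : G)⁻¹ * u * g) = (g : G)⁻¹ * (u * u) * g by group, hu]; group))
  refine ⟨g, Subgroup.mem_centralizer_singleton_iff.mp g.2, ?_⟩
  rcases Int.even_or_odd i with ⟨j, rfl⟩ | ⟨j, rfl⟩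
  · rw [← two_mul, zpow_mul, zpow_two, H.tt, one_zpow] at hi
    refine absurd ?_ hu1
    rw [show u = (g : G) * ((g : G)⁻¹ * u * g) * (g : G)⁻¹ by group, ← hi]; group
  · rw [zpow_add, zpow_mul, zpow_two, H.tt, one_zpow, one_mul, zpow_one] at hi
    rw [hi]; group

/-- Cyclicity in the centraliser of a conjugate of `t`. -/
theorem cyc_conj {g s : G} (hg : g * H.t * g⁻¹ = s) {P : Subgroup G} (hP : IsPGroup l P)
    (hPs : ∀ x ∈ P, x * s = s * x) : IsCyclic P := by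
  have hc : IsCyclic ↥(P.map (MulAut.conj g⁻¹).toMonoidHom) := by
    refine H.cyc _ (hP.map _) ?_
    rintro _ ⟨x, hx, rfl⟩
    show (MulAut.conj g⁻¹) x * H.t = H.t * (MulAut.conj g⁻¹) x
    have e : H.t = (MulAut.conj g⁻¹) s := by simp [← hg, mul_assoc]
    rw [e, ← map_mul, ← map_mul, hPs x hx]
  exact isCyclic_of_injective (P.equivMapOfInjective (MulAut.conj g⁻¹).toMonoidHom
    (MulAut.conj g⁻¹).injective).toMonoidHom (MulEquiv.injective _)

/-- An element `θ` conjugating `v` to `t v`. -/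
theorem exists_θ : ∃ θ : G, θ * H.t = H.t * θ ∧ θ * H.h = H.h * θ ∧ θ * H.v * θ⁻¹ = H.t * H.v ∧
    θ * θ = H.t ∧ ∃ k : ℕ, θ = H.τ ^ k := by
  refine ⟨H.τ ^ 2 ^ (H.c - 2), ?_, ?_, ?_, ?_, _, rfl⟩
  · exact (Commute.pow_left H.τ_comm_t _).eq
  · exact (Commute.pow_left H.τh _).eq
  · set θ := H.τ ^ 2 ^ (H.c - 2) with hθ
    have h2 : θ * θ = H.t := by
      rw [hθ, ← pow_add, ← two_mul, ← pow_succ', show H.c - 2 + 1 = H.c - 1 by have := H.hc; omega, H.τt]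
    have h3 : H.v * θ * H.v⁻¹ = θ⁻¹ := by
      rw [hθ, ← conj_pow, H.vτ, (Commute.inv_left H.τ_comm_t).mul_pow, inv_pow]
      have : H.t ^ 2 ^ (H.c - 2) = 1 := by
        rw [show H.c - 2 = (H.c - 3) + 1 by have := H.hc; omega, pow_succ', pow_mul, pow_two, H.tt, one_pow]
      rw [this, mul_one]
    calc θ * H.v * θ⁻¹ = θ * (H.v * θ⁻¹) := by group
      _ = θ * (H.v * (H.v * θ * H.v⁻¹)) := by rw [h3]
      _ = θ * (H.v * H.v) * θ * H.v⁻¹ := by group
      _ = H.t * H.v := by rw [H.vv, mul_one, h2, H.vi]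
  · rw [← pow_add, ← two_mul, ← pow_succ', show H.c - 2 + 1 = H.c - 1 by have := H.hc; omega, H.τt]

/-- An involution `x v` is conjugate to `v` under the torus. -/
theorem torus_trans {x : G} (hx : x ∈ H.T) (h2 : x * H.v * (x * H.v) = 1) :
    ∃ s ∈ H.T, s * H.v * s⁻¹ = x * H.v := by
  obtain ⟨i, hi⟩ := H.Tdec x hx
  set o := H.τ ^ i * x with ho
  have hoT : o ∈ H.T := mul_mem (pow_mem H.τT i) hx
  have hcoT : ∀ y ∈ H.T, ∀ z ∈ H.T, Commute y z := fun y hy z hz => H.Tcomm y hy z hz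
  -- `v` conjugation on `τ` powers
  have hvi : ∀ n : ℤ, H.v * H.τ ^ n * H.v⁻¹ = H.τ ^ (-n) * H.t ^ n := fun n => by
    rw [← conj_zpow, H.vτ, (Commute.inv_left H.τ_comm_t).mul_zpow, inv_zpow', ]
  set j : ℤ := -(i : ℤ) with hj
  have hxe : x = H.τ ^ j * o := by rw [ho, hj, zpow_neg, zpow_natCast, inv_mul_cancel_left]
  have htT : H.t ∈ H.T := H.τt ▸ pow_mem H.τT _
  have hvo : H.v * o * H.v⁻¹ ∈ H.T := H.conj_v_T hoT
  have e1 : H.t ^ j * (o * (H.v * o * H.v⁻¹)) = 1 := by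
    have := h2
    rw [hxe] at this
    calc H.t ^ j * (o * (H.v * o * H.v⁻¹))
        = (H.τ ^ j * H.τ ^ (-j)) * H.t ^ j * (o * (H.v * o * H.v⁻¹)) := by
          rw [← zpow_add, add_neg_cancel, zpow_zero, one_mul]
      _ = H.τ ^ j * ((H.τ ^ (-j) * H.t ^ j) * o) * (H.v * o * H.v⁻¹) := by group
      _ = H.τ ^ j * (o * (H.τ ^ (-j) * H.t ^ j)) * (H.v * o * H.v⁻¹) := by
          rw [(hcoT _ (mul_mem (zpow_mem H.τT _) (zpow_mem htT _)) _ hoT).eq]
      _ = H.τ ^ j * o * ((H.v * H.τ ^ j * H.v⁻¹) * (H.v * o * H.v⁻¹)) := by rw [hvi]; group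
      _ = H.τ ^ j * o * H.v * (H.τ ^ j * o * H.v⁻¹) := by group
      _ = 1 := by rw [H.vi]; exact this
  have hoo : Odd (orderOf (o * (H.v * o * H.v⁻¹))) := by
    refine Odd.of_dvd_nat (hi.mul ?_) ((hcoT _ hoT _ hvo).orderOf_mul_dvd_mul_orderOf)
    rwa [← MulAut.conj_apply, MulEquiv.orderOf_eq]
  have htj : H.t ^ j = 1 := by
    have h1 : (H.t ^ j) ^ 2 = 1 := by
      rw [← zpow_natCast, ← zpow_mul, mul_comm, zpow_mul, zpow_natCast, pow_two, H.tt, one_zpow]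
    rw [eq_inv_of_mul_eq_one_left e1] at h1 ⊢
    rw [inv_pow, inv_eq_one] at h1
    rw [inv_eq_one]
    exact orderOf_eq_one_iff.mp (Nat.eq_one_of_dvd_coprimes (Nat.coprime_two_left.mpr hoo)
      (orderOf_dvd_of_pow_eq_one h1) dvd_rfl)
  rw [htj, one_mul] at e1
  obtain ⟨k, hk⟩ : Even j := by
    rcases Int.even_or_odd j with h | ⟨m, hm⟩
    · exact h
    · rw [hm, zpow_add, zpow_mul, zpow_two, H.tt, one_zpow, one_mul, zpow_one] at htj
      exact absurd htj H.t_ne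
  obtain ⟨n, hn⟩ := CfsgLib.Involutions.exists_sqrt hi
  have hvn : H.v * (o ^ n)⁻¹ * H.v⁻¹ = o ^ n := by
    rw [← inv_pow, ← conj_pow, show H.v * o⁻¹ * H.v⁻¹ = (H.v * o * H.v⁻¹)⁻¹ by group,
      ← eq_inv_of_mul_eq_one_left e1]
  obtain ⟨d, hd1, hd2⟩ : ∃ d : ℤ, H.τ ^ (d + d) * H.t ^ d = H.τ ^ j ∧ True := by
    rcases Int.even_or_odd k with ⟨m, hm⟩ | ⟨m, hm⟩
    · refine ⟨k, ?_, trivial⟩
      have : H.t ^ k = 1 := by rw [hm, ← two_mul, zpow_mul, zpow_two, H.tt, one_zpow]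
      rw [this, mul_one, hk]
    · refine ⟨k + (2 ^ (H.c - 2) : ℕ), ?_, trivial⟩
      have h1 : H.t ^ (k + (2 ^ (H.c - 2) : ℕ)) = H.t := by
        have : H.t ^ 2 ^ (H.c - 2) = 1 := by
          rw [show H.c - 2 = (H.c - 3) + 1 by have := H.hc; omega, pow_succ', pow_mul, pow_two, H.tt, one_pow]
        rw [zpow_add, zpow_natCast, this, mul_one, hm, zpow_add, zpow_mul, zpow_two, H.tt, one_zpow, one_mul,
          zpow_one]
      have h2' : H.τ ^ (((2 ^ (H.c - 2) : ℕ) : ℤ) + ((2 ^ (H.c - 2) : ℕ) : ℤ)) = H.t := by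
        rw [← Nat.cast_add, zpow_natCast, ← two_mul, ← pow_succ',
          show H.c - 2 + 1 = H.c - 1 by have := H.hc; omega, H.τt]
      rw [h1, show k + ((2 ^ (H.c - 2) : ℕ) : ℤ) + (k + ((2 ^ (H.c - 2) : ℕ) : ℤ)) =
        j + (((2 ^ (H.c - 2) : ℕ) : ℤ) + ((2 ^ (H.c - 2) : ℕ) : ℤ)) by rw [hk]; ring, zpow_add, h2',
        mul_assoc, H.tt, mul_one]
  refine ⟨H.τ ^ d * o ^ n, mul_mem (zpow_mem H.τT _) (pow_mem hoT _), ?_⟩
  have e2 : H.v * (H.τ ^ d * o ^ n)⁻¹ * H.v⁻¹ = o ^ n * (H.τ ^ d * H.t ^ d) := by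
    rw [mul_inv_rev, show H.v * ((o ^ n)⁻¹ * (H.τ ^ d)⁻¹) * H.v⁻¹ =
      (H.v * (o ^ n)⁻¹ * H.v⁻¹) * (H.v * (H.τ ^ d)⁻¹ * H.v⁻¹) by group, hvn, ← zpow_neg, hvi, neg_neg]
    congr 2
    rw [zpow_neg, ← inv_zpow, H.ti]
  calc H.τ ^ d * o ^ n * H.v * (H.τ ^ d * o ^ n)⁻¹
      = H.τ ^ d * o ^ n * (H.v * (H.τ ^ d * o ^ n)⁻¹ * H.v⁻¹) * H.v := by group
    _ = H.τ ^ d * (o ^ n * o ^ n) * (H.τ ^ d * H.t ^ d) * H.v := by rw [e2]; group
    _ = H.τ ^ d * ((H.τ ^ d * H.t ^ d) * o) * H.v := by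
        rw [hn, mul_assoc (H.τ ^ d) o, (hcoT _ hoT _ (mul_mem (zpow_mem H.τT _) (zpow_mem htT _))).eq]
    _ = H.τ ^ (d + d) * H.t ^ d * o * H.v := by rw [zpow_add]; group
    _ = x * H.v := by rw [hd1, ← hxe]

/-- An element of order `l` of `C(t)` inverted by `v` lies in a conjugate of `⟨h⟩` under `C(t, v)`. -/
theorem transl (hl2 : l ≠ 2) {a : G} (ha : orderOf a = l) (hat : a * H.t = H.t * a) (hav : H.v * a * H.v⁻¹ = a⁻¹) :
    ∃ c : G, c * H.t = H.t * c ∧ c * H.v = H.v * c ∧ c * H.h * c⁻¹ ∈ Subgroup.zpowers a := by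
  set Ct := Subgroup.centralizer ({H.t} : Set G)
  have hhC : H.h ∈ Ct := Subgroup.mem_centralizer_singleton_iff.mpr H.ht
  have haC : a ∈ Ct := Subgroup.mem_centralizer_singleton_iff.mpr hat
  have hpow : ∀ x : Ct, orderOf (x : G) = l → IsPGroup l ↥(Subgroup.zpowers x) := fun x hx =>
    IsPGroup.of_card (n := 1) (by rw [Nat.card_zpowers, ← Subgroup.orderOf_coe, hx, pow_one])
  obtain ⟨P1, hP1⟩ := (hpow ⟨H.h, hhC⟩ H.hord).exists_le_sylow
  obtain ⟨P2, hP2⟩ := (hpow ⟨a, haC⟩ ha).exists_le_sylow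
  obtain ⟨y, hy⟩ := MulAction.exists_smul_eq Ct P1 P2
  have h1 : (⟨a, haC⟩ : Ct) ∈ (P2 : Subgroup Ct) := hP2 (Subgroup.mem_zpowers _)
  rw [← hy, Sylow.coe_subgroup_smul, Subgroup.mem_pointwise_smul_iff_inv_smul_mem] at h1
  have hmem : (y : G)⁻¹ * a * y ∈ Subgroup.zpowers H.h := by
    refine mem_zpowers_of_cyclic (H.cyc ((P1 : Subgroup Ct).map Ct.subtype) (P1.2.map _) ?_) ?_
      ⟨_, hP1 (Subgroup.mem_zpowers _), rfl⟩ H.hord
      (by
        rw [show (y : G)⁻¹ * a * y = (y : G)⁻¹ * a * ((y : G)⁻¹)⁻¹ by rw [inv_inv], conj_pow, ← ha,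
          pow_orderOf_eq_one]
        group)
    · intro x hx
      exact Subgroup.mem_centralizer_singleton_iff.mp (Subgroup.map_subtype_le _ hx)
    · exact ⟨_, h1, by simp [MulAut.smul_def, mul_assoc]⟩
  have hyt : (y : G) * H.t = H.t * y := Subgroup.mem_centralizer_singleton_iff.mp y.2
  obtain ⟨i, hi⟩ := Subgroup.mem_zpowers_iff.mp hmem
  have hz : (y : G) * H.h * (y : G)⁻¹ ∈ Subgroup.zpowers a := by
    refine mem_zpowers_of_cyclic (P := (Subgroup.zpowers H.h).map (MulAut.conj (y : G)).toMonoidHom) ?_ ?_ ?_ ha ?_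
    · exact isCyclic_of_surjective _ (Subgroup.equivMapOfInjective _ (MulAut.conj (y : G)).toMonoidHom
        (MulAut.conj (y : G)).injective).surjective
    · exact ⟨H.h, Subgroup.mem_zpowers _, rfl⟩
    · exact ⟨_, hmem, by simp [mul_assoc]⟩
    · rw [conj_pow, H.h_pow]; group
  -- `y⁻¹ v y` inverts `h`
  set w := (y : G)⁻¹ * H.v * y with hw
  have hwt : w * H.t = H.t * w := by
    have hy' : (y : G)⁻¹ * H.t = H.t * (y : G)⁻¹ := (Commute.inv_left hyt).eq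
    calc w * H.t = (y : G)⁻¹ * H.v * ((y : G) * H.t) := by rw [hw]; group
      _ = (y : G)⁻¹ * (H.v * H.t) * y := by rw [hyt]; group
      _ = ((y : G)⁻¹ * H.t) * H.v * y := by rw [← H.tv]; group
      _ = H.t * w := by rw [hy', hw]; group
  obtain ⟨j, hj⟩ := Subgroup.mem_zpowers_iff.mp hz
  have hwh : w * H.h * w⁻¹ = H.h⁻¹ := by
    have e : H.v * ((y : G) * H.h * (y : G)⁻¹) * H.v⁻¹ = ((y : G) * H.h * (y : G)⁻¹)⁻¹ := by
      rw [← hj, ← conj_zpow, hav, inv_zpow]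
    calc w * H.h * w⁻¹ = (y : G)⁻¹ * (H.v * ((y : G) * H.h * (y : G)⁻¹) * H.v⁻¹) * y := by rw [hw]; group
      _ = _ := by rw [e]; group
  have hwT : w ∉ H.T := fun hm => by
    have h := hwh
    rw [((H.memT _).mp hm).2, mul_inv_cancel_right] at h
    have h2 : H.h ^ 2 = 1 := by rw [pow_two]; nth_rewrite 2 [h]; exact mul_inv_cancel _
    exact hl2 ((Nat.prime_dvd_prime_iff_eq hl.out Nat.prime_two).mp (H.hord ▸ orderOf_dvd_of_pow_eq_one h2))
  have hx : w * H.v ∈ H.T := (H.norm w hwt (hwh ▸ inv_mem (Subgroup.mem_zpowers _))).resolve_left hwT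
  have hww : w = w * H.v * H.v := by rw [mul_assoc, H.vv, mul_one]
  obtain ⟨s, hs, hsv⟩ := H.torus_trans hx (by
    rw [← hww, hw, show (y : G)⁻¹ * H.v * y * ((y : G)⁻¹ * H.v * y) = (y : G)⁻¹ * (H.v * H.v) * y by group, H.vv]
    group)
  rw [← hww] at hsv
  obtain ⟨hst, hsh⟩ := (H.memT s).mp hs
  refine ⟨(y : G) * s, ?_, ?_, ?_⟩
  · exact (Commute.mul_left hyt hst).eq
  · have : (y : G) * s * H.v * ((y : G) * s)⁻¹ = H.v := by
      rw [show (y : G) * s * H.v * ((y : G) * s)⁻¹ = (y : G) * (s * H.v * s⁻¹) * (y : G)⁻¹ by group, hsv, hw]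
      group
    exact mul_inv_eq_iff_eq_mul.mp this
  · rw [show (y : G) * s * H.h * ((y : G) * s)⁻¹ = (y : G) * (s * H.h * s⁻¹) * (y : G)⁻¹ by group, hsh,
      mul_inv_cancel_right]
    exact hz

end Axis

end CfsgLib.GU2Cent
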