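import Cfsg.Agent.Lib.GU2Cent.Axis
import Cfsg.Agent.Lib.SmallElements
import Mathlib.Data.ZMod.Basic

/-!
The elementary abelian group of order `l³` inside an invariant `l`-subgroup of `C(h)` which does not centralise `t`.
-/

set_option autoImplicit false
set_option linter.unusedSectionVars false
set_option linter.style.haveILetI false

namespace CfsgLib.GU2Cent

open scoped commutatorElement

universe u

variable {G : Type u} [Group G]

/-- Exchanging powers of two elements with a central commutator. -/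
theorem pow_swap {a b c : G} (hab : a * b = c * (b * a)) (ha : Commute c a) (hb : Commute c b) (j k : ℤ) :
    b ^ k * a ^ j = c ^ (-(j * k)) * (a ^ j * b ^ k) := by
  have h1 : a * b ^ k * a⁻¹ = c ^ k * b ^ k := by
    rw [← conj_zpow, hab, show c * (b * a) * a⁻¹ = c * b by group, hb.mul_zpow]
  have h2 : b ^ k * a * (b ^ k)⁻¹ = c ^ (-k) * a := by
    have e : a * b ^ k = c ^ k * b ^ k * a := by rw [← h1]; group
    calc b ^ k * a * (b ^ k)⁻¹ = (c ^ k)⁻¹ * (c ^ k * b ^ k * a) * (b ^ k)⁻¹ := by group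
      _ = _ := by rw [← e, zpow_neg]; group
  calc b ^ k * a ^ j = (b ^ k * a * (b ^ k)⁻¹) ^ j * b ^ k := by rw [conj_zpow]; group
    _ = (c ^ (-k)) ^ j * a ^ j * b ^ k := by rw [h2, (ha.zpow_left (-k)).mul_zpow]
    _ = _ := by rw [← zpow_mul, mul_assoc]; ring_nf

/-- An invariant `l`-subgroup of `C(h)` not centralising `t`. -/
structure AxQ {l : ℕ} (H : Axis G l) where
  hl2 : l ≠ 2
  Q : Subgroup G
  pQ : IsPGroup l Q
  Qh : ∀ x ∈ Q, x * H.h = H.h * x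
  hQ : H.h ∈ Q
  Qv : ∀ x ∈ Q, H.v * x * H.v⁻¹ ∈ Q
  Qτ : ∀ x ∈ Q, H.τ * x * H.τ⁻¹ ∈ Q
  notle : ∃ x ∈ Q, x * H.t ≠ H.t * x

namespace AxQ

variable [Finite G] {l : ℕ} [hl : Fact l.Prime] {H : Axis G l} (A : AxQ H)

include A in
theorem l_odd : Odd l := hl.out.odd_of_ne_two A.hl2

theorem odd_ord {x : G} (hx : x ∈ A.Q) : Odd (orderOf x) :=
  CfsgLib.SuzukiRankOne.odd_orderOf_of_pgroup A.l_odd A.pQ hx

theorem eq_one {x : G} (hx : x ∈ A.Q) (h : x * x = 1) : x = 1 :=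
  orderOf_eq_one_iff.mp (Nat.eq_one_of_dvd_coprimes (Nat.coprime_two_left.mpr (A.odd_ord hx))
    (orderOf_dvd_of_pow_eq_one (show x ^ 2 = 1 by rw [pow_two, h])) dvd_rfl)

theorem Qpow {g : G} (hg : ∀ x ∈ A.Q, g * x * g⁻¹ ∈ A.Q) (n : ℕ) : ∀ x ∈ A.Q, g ^ n * x * (g ^ n)⁻¹ ∈ A.Q := by
  induction n with
  | zero => intro x hx; simpa using hx
  | succ n ih =>
    intro x hx
    rw [show g ^ (n + 1) * x * (g ^ (n + 1))⁻¹ = g ^ n * (g * x * g⁻¹) * (g ^ n)⁻¹ by rw [pow_succ]; group]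
    exact ih _ (hg x hx)

theorem Qt : ∀ x ∈ A.Q, H.t * x * H.t⁻¹ ∈ A.Q := H.τt ▸ A.Qpow A.Qτ _

/-- Fixed elements of order dividing `l` in `Q`. -/
theorem fix_t {x : G} (hx : x ∈ A.Q) (hxl : x ^ l = 1) (ht : x * H.t = H.t * x) :
    x ∈ Subgroup.zpowers H.h := by
  refine mem_zpowers_of_cyclic (H.cyc (A.Q ⊓ Subgroup.centralizer {H.t}) (A.pQ.to_le inf_le_left) ?_)
    (⟨hx, Subgroup.mem_centralizer_singleton_iff.mpr ht⟩)
    ⟨A.hQ, Subgroup.mem_centralizer_singleton_iff.mpr H.ht⟩ H.hord hxl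
  exact fun y hy => Subgroup.mem_centralizer_singleton_iff.mp (Subgroup.mem_inf.mp hy).2

theorem fix_v {x y : G} (hx : x ∈ A.Q) (hy : y ∈ A.Q) (hyl : orderOf y = l) (hxl : x ^ l = 1)
    (hxv : x * H.v = H.v * x) (hyv : y * H.v = H.v * y) : x ∈ Subgroup.zpowers y := by
  obtain ⟨g, hg, -⟩ := H.swap
  refine mem_zpowers_of_cyclic (H.cyc_conj hg (A.pQ.to_le (inf_le_left (b := Subgroup.centralizer {H.v}))) ?_)
    (⟨hx, Subgroup.mem_centralizer_singleton_iff.mpr hxv⟩)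
    ⟨hy, Subgroup.mem_centralizer_singleton_iff.mpr hyv⟩ hyl hxl
  exact fun z hz => Subgroup.mem_centralizer_singleton_iff.mp (Subgroup.mem_inf.mp hz).2

theorem fix_tv {x y : G} (hx : x ∈ A.Q) (hy : y ∈ A.Q) (hyl : orderOf y = l) (hxl : x ^ l = 1)
    (hxv : x * (H.t * H.v) = H.t * H.v * x) (hyv : y * (H.t * H.v) = H.t * H.v * y) :
    x ∈ Subgroup.zpowers y := by
  obtain ⟨g, hg, -⟩ := H.swap
  obtain ⟨θ, -, -, hθ, -⟩ := H.exists_θ
  have hg' : (θ * g) * H.t * (θ * g)⁻¹ = H.t * H.v := by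
    rw [show (θ * g) * H.t * (θ * g)⁻¹ = θ * (g * H.t * g⁻¹) * θ⁻¹ by group, hg, hθ]
  refine mem_zpowers_of_cyclic
    (H.cyc_conj hg' (A.pQ.to_le (inf_le_left (b := Subgroup.centralizer {H.t * H.v}))) ?_)
    (⟨hx, Subgroup.mem_centralizer_singleton_iff.mpr hxv⟩)
    ⟨hy, Subgroup.mem_centralizer_singleton_iff.mpr hyv⟩ hyl hxl
  exact fun z hz => Subgroup.mem_centralizer_singleton_iff.mp (Subgroup.mem_inf.mp hz).2

theorem fix_both {x : G} (hx : x ∈ A.Q) (hxl : x ^ l = 1) (ht : x * H.t = H.t * x) (hv : x * H.v = H.v * x) :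
    x = 1 := by
  obtain ⟨i, rfl⟩ := Subgroup.mem_zpowers_iff.mp (A.fix_t hx hxl ht)
  refine A.eq_one hx ?_
  have h1 : H.v * H.h ^ i * H.v⁻¹ = (H.h ^ i)⁻¹ := by rw [← conj_zpow, H.vh, inv_zpow]
  rw [← hv, mul_inv_cancel_right] at h1
  nth_rewrite 2 [h1]
  exact mul_inv_cancel _

/-- The centre of `Q`. -/
def Z1 : Subgroup G := A.Q ⊓ Subgroup.centralizer (A.Q : Set G)

theorem Z1_comm {c x : G} (hc : c ∈ A.Z1) (hx : x ∈ A.Q) : Commute c x :=
  (Subgroup.mem_centralizer_iff.mp (Subgroup.mem_inf.mp hc).2 x hx).symm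

/-- Membership of the second centre. -/
def Z2 (g : G) : Prop := g ∈ A.Q ∧ ∀ y ∈ A.Q, ⁅g, y⁆ ∈ A.Z1

theorem comm_mul {g g' y : G} (h : ⁅g', y⁆ ∈ A.Z1) (hg : g ∈ A.Q) : ⁅g * g', y⁆ = ⁅g', y⁆ * ⁅g, y⁆ := by
  have e : ⁅g * g', y⁆ = g * ⁅g', y⁆ * g⁻¹ * ⁅g, y⁆ := by simp only [commutatorElement_def]; group
  rw [e, ← (A.Z1_comm h hg).eq, mul_inv_cancel_right]

theorem Z2_of_Z1 {g : G} (hg : g ∈ A.Z1) : A.Z2 g :=
  ⟨(Subgroup.mem_inf.mp hg).1, fun y hy => by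
    rw [commutatorElement_eq_one_iff_commute.mpr (A.Z1_comm hg hy)]; exact one_mem _⟩

theorem Z2_mul {g g' : G} (hg : A.Z2 g) (hg' : A.Z2 g') : A.Z2 (g * g') :=
  ⟨mul_mem hg.1 hg'.1, fun y hy => by rw [A.comm_mul (hg'.2 y hy) hg.1]; exact mul_mem (hg'.2 y hy) (hg.2 y hy)⟩

theorem Z2_inv {g : G} (hg : A.Z2 g) : A.Z2 g⁻¹ :=
  ⟨inv_mem hg.1, fun y hy => by
    have e : ⁅g⁻¹, y⁆ = g⁻¹ * ⁅g, y⁆⁻¹ * g := by simp only [commutatorElement_def]; group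
    rw [e, mul_assoc, ((A.Z1_comm (hg.2 y hy) hg.1).inv_left).eq, inv_mul_cancel_left]
    exact inv_mem (hg.2 y hy)⟩

theorem Z2_pow {g : G} (hg : A.Z2 g) : ∀ n : ℕ, A.Z2 (g ^ n)
  | 0 => by rw [pow_zero]; exact A.Z2_of_Z1 (one_mem _)
  | n + 1 => by rw [pow_succ]; exact A.Z2_mul (Z2_pow hg n) hg

theorem Z2_conj {s : G} (hs : ∀ x ∈ A.Q, s * x * s⁻¹ ∈ A.Q) {g : G} (hg : A.Z2 g) : A.Z2 (s * g * s⁻¹) := by
  have hsN : s ∈ Subgroup.normalizer (A.Q : Set G) := Subgroup.mem_normalizer_fintype hs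
  have hback : ∀ y ∈ A.Q, ∃ x ∈ A.Q, y = s * x * s⁻¹ := fun y hy =>
    ⟨s⁻¹ * y * s, (Subgroup.mem_normalizer_iff''.mp hsN y).mp hy, by group⟩
  have hZ : ∀ z ∈ A.Z1, s * z * s⁻¹ ∈ A.Z1 := fun z hz => Subgroup.mem_inf.mpr
    ⟨hs z (Subgroup.mem_inf.mp hz).1, Subgroup.mem_centralizer_iff.mpr fun y hy => by
      obtain ⟨x, hx, rfl⟩ := hback y hy
      show (MulAut.conj s) x * (MulAut.conj s) z = (MulAut.conj s) z * (MulAut.conj s) x
      rw [← map_mul, ← map_mul, (A.Z1_comm hz hx).eq]⟩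
  refine ⟨hs g hg.1, fun y hy => ?_⟩
  obtain ⟨x, hx, rfl⟩ := hback y hy
  rw [← conjugate_commutatorElement]
  exact hZ _ (hg.2 x hx)

/-- Commutators of elements killed by `l` in the second centre are killed by `l`. -/
theorem comm_pow {a b : G} (hb : A.Z2 b) (ha : A.Z2 a) (hbl : b ^ l = 1) :
    ⁅b⁻¹, a⁻¹⁆ ^ l = 1 ∧ ⁅b⁻¹, a⁻¹⁆ ∈ A.Z1 := by
  have hc := (A.Z2_inv hb).2 a⁻¹ (inv_mem ha.1)
  refine ⟨?_, hc⟩
  have hd : b * a = a * b * ⁅b⁻¹, a⁻¹⁆ := by rw [commutatorElement_def]; group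
  have h1 := CfsgLib.Small.pow_mul_class_two hd (A.Z1_comm hc hb.1) l
  rw [hbl, one_mul, mul_one] at h1
  exact mul_eq_left.mp h1.symm

/-- The elements of the second centre killed by `l`. -/
def Om : Subgroup G where
  carrier := {g | A.Z2 g ∧ g ^ l = 1}
  one_mem' := ⟨A.Z2_of_Z1 (one_mem _), one_pow _⟩
  mul_mem' := by
    rintro a b ⟨ha, hal⟩ ⟨hb, hbl⟩
    refine ⟨A.Z2_mul ha hb, ?_⟩
    obtain ⟨hcl, hc⟩ := A.comm_pow hb ha hbl
    have hd : b * a = a * b * ⁅b⁻¹, a⁻¹⁆ := by rw [commutatorElement_def]; group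
    rw [CfsgLib.Small.mul_pow_class_two hd (A.Z1_comm hc ha.1) (A.Z1_comm hc hb.1) l, hal, hbl, one_mul, one_mul]
    obtain ⟨k, hk⟩ := hl.out.dvd_choose_self (k := 2) (by norm_num)
      (lt_of_le_of_ne hl.out.two_le (Ne.symm A.hl2))
    rw [hk, pow_mul, hcl, one_pow]
  inv_mem' := by
    rintro a ⟨ha, hal⟩
    exact ⟨A.Z2_inv ha, by rw [inv_pow, hal, inv_one]⟩

theorem mem_Om {g : G} : g ∈ A.Om ↔ A.Z2 g ∧ g ^ l = 1 := Iff.rfl

theorem Om_Q : A.Om ≤ A.Q := fun _ h => h.1.1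

theorem Om_conj {s : G} (hs : ∀ x ∈ A.Q, s * x * s⁻¹ ∈ A.Q) {g : G} (hg : g ∈ A.Om) : s * g * s⁻¹ ∈ A.Om :=
  ⟨A.Z2_conj hs hg.1, by rw [conj_pow, hg.2]; group⟩

theorem Om_comm {a b : G} (ha : a ∈ A.Om) (hb : b ∈ A.Om) : ⁅a, b⁆ ∈ A.Om ∧ ⁅a, b⁆ ∈ A.Z1 := by
  obtain ⟨h1, h2⟩ := A.comm_pow (A.Z2_inv ha.1) (A.Z2_inv hb.1) (inv_mem ha : a⁻¹ ∈ A.Om).2
  rw [inv_inv, inv_inv] at h1 h2
  exact ⟨⟨A.Z2_of_Z1 h2, h1⟩, h2⟩

theorem h_Om : H.h ∈ A.Om :=
  ⟨A.Z2_of_Z1 (Subgroup.mem_inf.mpr ⟨A.hQ, Subgroup.mem_centralizer_iff.mpr fun y hy => A.Qh y hy⟩), H.h_pow⟩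

/-- The second centre is not centralised by `t`. -/
theorem Z2_not_fix : ∃ z, A.Z2 z ∧ z * H.t ≠ H.t * z := by
  by_contra hcon
  push Not at hcon
  obtain ⟨x, hx, hxt⟩ := A.notle
  -- the second centre is then central
  have hcen : ∀ z, A.Z2 z → z ∈ A.Z1 := by
    intro z hz
    refine Subgroup.mem_inf.mpr ⟨hz.1, Subgroup.mem_centralizer_iff.mpr fun g hg => ?_⟩
    have ho : Odd (orderOf (g⁻¹ * (H.t * g * H.t))) :=
      A.odd_ord (mul_mem (inv_mem hg) (by simpa [H.ti] using A.Qt g hg))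
    obtain ⟨k, hk1, hk2⟩ := exists_fix_twist H.tt ho
    set a := (g⁻¹ * (H.t * g * H.t)) ^ k with ha
    have haQ : a ∈ A.Q := pow_mem (mul_mem (inv_mem hg) (by simpa [H.ti] using A.Qt g hg)) k
    have hzt : z * H.t = H.t * z := hcon z hz
    -- the fixed part
    have hf : Commute (g * a) z := by
      have hcyc := H.cyc (A.Q ⊓ Subgroup.centralizer {H.t}) (A.pQ.to_le inf_le_left)
        (fun y hy => Subgroup.mem_centralizer_singleton_iff.mp (Subgroup.mem_inf.mp hy).2)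
      letI := hcyc.commGroup
      exact congrArg Subtype.val (mul_comm
        (⟨g * a, mul_mem hg haQ, Subgroup.mem_centralizer_singleton_iff.mpr hk2.eq⟩ :
          ↥(A.Q ⊓ Subgroup.centralizer {H.t})) ⟨z, hz.1, Subgroup.mem_centralizer_singleton_iff.mpr hzt⟩)
    -- the inverted part
    have hc : ⁅z, a⁆ ∈ A.Z1 := hz.2 a haQ
    have hct : H.t * ⁅z, a⁆ * H.t⁻¹ = ⁅z, a⁆ := by
      rw [← hcon _ (A.Z2_of_Z1 hc), mul_inv_cancel_right]
    rw [conjugate_commutatorElement, show H.t * z * H.t⁻¹ = z by rw [← hzt, mul_inv_cancel_right],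
      show H.t * a * H.t⁻¹ = a⁻¹ by rw [H.ti]; exact hk1] at hct
    have hinv : ⁅z, a⁻¹⁆ = ⁅z, a⁆⁻¹ := by
      have e : ⁅z, a⁻¹⁆ = a⁻¹ * ⁅z, a⁆⁻¹ * a := by simp only [commutatorElement_def]; group
      rw [e, mul_assoc, ((A.Z1_comm hc haQ).inv_left).eq, inv_mul_cancel_left]
    rw [hinv] at hct
    have hza : ⁅z, a⁆ = 1 := A.eq_one (Subgroup.mem_inf.mp hc).1 (by
      nth_rewrite 1 [← hct]; exact inv_mul_cancel _)
    have h2 : Commute a z := (commutatorElement_eq_one_iff_commute.mp hza).symm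
    have := hf.mul_left h2.inv_left
    rwa [mul_inv_cancel_right] at this
  -- the upper central series goes on
  haveI : Fact l.Prime := hl
  by_cases hab : ∀ g ∈ A.Q, g ∈ A.Z1
  · exact hxt (hcon x (A.Z2_of_Z1 (hab x hx)))
  push Not at hab
  obtain ⟨g, hg, hgZ⟩ := hab
  set P := (A.Q : Subgroup G)
  haveI : Nontrivial (↥P ⧸ Subgroup.center ↥P) := by
    refine ⟨⟨QuotientGroup.mk ⟨g, hg⟩, 1, fun e => hgZ ?_⟩⟩
    rw [QuotientGroup.eq_one_iff, Subgroup.mem_center_iff] at e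
    exact Subgroup.mem_inf.mpr ⟨hg, Subgroup.mem_centralizer_iff.mpr fun y hy =>
      congrArg Subtype.val (e ⟨y, hy⟩)⟩
  haveI := (A.pQ.to_quotient (Subgroup.center ↥P)).center_nontrivial
  obtain ⟨w, hw⟩ := exists_ne (1 : Subgroup.center (↥P ⧸ Subgroup.center ↥P))
  obtain ⟨⟨w0, hw0⟩, hw1⟩ := QuotientGroup.mk'_surjective (Subgroup.center ↥P) (w : ↥P ⧸ Subgroup.center ↥P)
  have hZ2 : A.Z2 w0 := by
    refine ⟨hw0, fun y hy => ?_⟩
    have h1 : (⁅(⟨w0, hw0⟩ : ↥P), ⟨y, hy⟩⁆) ∈ Subgroup.center ↥P := by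
      rw [← QuotientGroup.eq_one_iff, ← QuotientGroup.mk'_apply, map_commutatorElement, hw1,
        commutatorElement_eq_one_iff_commute]
      exact (Subgroup.mem_center_iff.mp w.2 _).symm
    exact Subgroup.mem_inf.mpr ⟨(⁅(⟨w0, hw0⟩ : ↥P), (⟨y, hy⟩ : ↥P)⁆).2, Subgroup.mem_centralizer_iff.mpr fun z hz =>
      congrArg Subtype.val (Subgroup.mem_center_iff.mp h1 ⟨z, hz⟩)⟩
  refine hw (Subtype.ext ?_)
  rw [← hw1, OneMemClass.coe_one, QuotientGroup.mk'_apply, QuotientGroup.eq_one_iff, Subgroup.mem_center_iff]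
  exact fun z => Subtype.ext (Subgroup.mem_centralizer_iff.mp (Subgroup.mem_inf.mp (hcen w0 hZ2)).2 z z.2)

/-- `Om` is not centralised by `t`. -/
theorem Om_not_fix : ∃ g ∈ A.Om, g * H.t ≠ H.t * g := by
  obtain ⟨z, hz, hzt⟩ := A.Z2_not_fix
  set m := z⁻¹ * (H.t * z * H.t) with hm
  have hmZ : A.Z2 m := A.Z2_mul (A.Z2_inv hz) (by simpa [H.ti] using A.Z2_conj A.Qt hz)
  have hm1 : m ≠ 1 := fun e => hzt (by
    rw [hm, inv_mul_eq_one] at e
    nth_rewrite 1 [e]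
    rw [mul_assoc, H.tt, mul_one])
  have hmi : H.t * m * H.t⁻¹ = m⁻¹ := by
    rw [hm, H.ti]
    calc H.t * (z⁻¹ * (H.t * z * H.t)) * H.t = H.t * z⁻¹ * H.t * z * (H.t * H.t) := by group
      _ = H.t⁻¹ * z⁻¹ * H.t⁻¹ * z := by rw [H.tt, mul_one, H.ti]
      _ = _ := by group
  obtain ⟨n, hn⟩ := A.pQ ⟨m, hmZ.1⟩
  have hml : l ∣ orderOf m := by
    obtain ⟨i, -, hi⟩ := (Nat.dvd_prime_pow hl.out).mp
      (orderOf_dvd_of_pow_eq_one (show m ^ l ^ n = 1 by simpa using congrArg Subtype.val hn))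
    rcases i with _ | i
    · exact absurd (orderOf_eq_one_iff.mp (by simpa using hi)) hm1
    · rw [hi]; exact dvd_pow_self _ (by omega)
  set a := m ^ (orderOf m / l) with ha
  have hao : orderOf a = l := orderOf_pow_orderOf_div (orderOf_pos m).ne' hml
  refine ⟨a, ⟨A.Z2_pow hmZ _, orderOf_dvd_iff_pow_eq_one.mp hao.dvd⟩, fun e => ?_⟩
  have h1 : H.t * a * H.t⁻¹ = a⁻¹ := by rw [ha, ← conj_pow, hmi, inv_pow]
  rw [← e, mul_inv_cancel_right] at h1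
  have := A.eq_one (x := a) (pow_mem hmZ.1 _ : a ∈ A.Q) (by nth_rewrite 2 [h1]; exact mul_inv_cancel _)
  exact hl.out.ne_one (by rw [← hao, this, orderOf_one])

theorem ord_l {x : G} (hx : x ∈ A.Om) (h1 : x ≠ 1) : orderOf x = l :=
  orderOf_eq_prime hx.2 h1

/-- Elements of `Om` fixed by `v` are inverted by `t`. -/
theorem inv_of_fix_v {g : G} (hg : g ∈ A.Om) (hv : g * H.v = H.v * g) : H.t * g * H.t⁻¹ = g⁻¹ := by
  have hQ' : g⁻¹ * (H.t * g * H.t) ∈ A.Om := mul_mem (inv_mem hg) (by simpa [H.ti] using A.Om_conj A.Qt hg)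
  obtain ⟨k, hk1, hk2⟩ := exists_fix_twist H.tt (A.odd_ord (A.Om_Q hQ'))
  have htg : Commute (H.t * g * H.t) H.v := ((Commute.mul_left H.tv hv).mul_left H.tv)
  have hf := A.fix_both (A.Om_Q (mul_mem hg (pow_mem hQ' k))) (mul_mem hg (pow_mem hQ' k) : _ ∈ A.Om).2 hk2.eq
    ((Commute.mul_left hv ((Commute.mul_left (Commute.inv_left hv) htg).pow_left k)).eq)
  rw [mul_eq_one_iff_eq_inv] at hf
  rw [hf, inv_inv, H.ti]
  set w := (g⁻¹ * (H.t * g * H.t)) ^ k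
  rw [← hk1]
  simp [mul_assoc, H.tt, ← mul_assoc H.t H.t]

/-- The data of the elementary abelian group. -/
structure Frame {l : ℕ} {H : Axis G l} (A : AxQ H) where
  a : G
  b : G
  aQ : a ∈ A.Q
  bQ : b ∈ A.Q
  ao : orderOf a = l
  bo : orderOf b = l
  av : a * H.v = H.v * a
  at_ : H.t * a * H.t⁻¹ = a⁻¹
  bv : H.v * b * H.v⁻¹ = b⁻¹
  bt : H.t * b * H.t⁻¹ = b⁻¹
  ab : a * b = b * a
  τE : ∀ x ∈ Subgroup.closure ({H.h, a, b} : Set G), H.τ * x * H.τ⁻¹ ∈ Subgroup.closure ({H.h, a, b} : Set G)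

theorem exists_a : ∃ a ∈ A.Om, a ≠ 1 ∧ a * H.v = H.v * a := by
  by_contra hcon
  push Not at hcon
  obtain ⟨θ, hθt, hθh, hθv, hθθ, kθ, hkθ⟩ := H.exists_θ
  have hθQ : ∀ x ∈ A.Q, θ⁻¹ * x * θ ∈ A.Q := fun x hx => by
    have hN : θ ∈ Subgroup.normalizer (A.Q : Set G) :=
      Subgroup.mem_normalizer_fintype (hkθ ▸ A.Qpow A.Qτ kθ)
    exact (Subgroup.mem_normalizer_iff''.mp hN x).mp hx
  have hv1 : ∀ g ∈ A.Om, g * H.v = H.v * g → g = 1 := fun g hg hgv => by_contra fun h1 => hcon g hg h1 hgv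
  have hinv : ∀ g ∈ A.Om, H.v * g * H.v⁻¹ = g⁻¹ ∧ H.t * H.v * g * (H.t * H.v)⁻¹ = g⁻¹ := by
    have hA : ∀ g ∈ A.Om, H.v * g * H.v⁻¹ = g⁻¹ := fun g hg => by
      have hm : g⁻¹ * (H.v * g * H.v) ∈ A.Om := mul_mem (inv_mem hg) (by simpa [H.vi] using A.Om_conj A.Qv hg)
      obtain ⟨k, hk1, hk2⟩ := exists_fix_twist H.vv (A.odd_ord (A.Om_Q hm))
      have := hv1 _ (mul_mem hg (pow_mem hm k)) hk2.eq
      rw [mul_eq_one_iff_eq_inv] at this
      rw [this, inv_inv, H.vi]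
      set w := (g⁻¹ * (H.v * g * H.v)) ^ k
      rw [← hk1]
      simp [mul_assoc, H.vv, ← mul_assoc H.v H.v]
    refine fun g hg => ⟨hA g hg, ?_⟩
    have hg' : θ⁻¹ * g * θ ∈ A.Om := by
      have := A.Om_conj (s := θ⁻¹) (fun x hx => by simpa using hθQ x hx) hg
      simpa using this
    rw [← hθv, show θ * H.v * θ⁻¹ * g * (θ * H.v * θ⁻¹)⁻¹ = θ * (H.v * (θ⁻¹ * g * θ) * H.v⁻¹) * θ⁻¹ by group,
      hA _ hg']
    group
  obtain ⟨g, hg, hgt⟩ := A.Om_not_fix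
  refine hgt ?_
  obtain ⟨h1, h2⟩ := hinv g hg
  have h3 : H.t * g⁻¹ * H.t⁻¹ = g⁻¹ := by
    rw [← h1]
    calc H.t * (H.v * g * H.v⁻¹) * H.t⁻¹ = H.t * H.v * g * (H.t * H.v)⁻¹ := by group
      _ = _ := by rw [h2, h1]
  exact (Commute.inv_left_iff.mp (mul_inv_eq_iff_eq_mul.mp h3).symm).eq

theorem exists_frame : Nonempty A.Frame := by
  obtain ⟨a, ha, ha1, hav⟩ := A.exists_a
  obtain ⟨θ, hθt, hθh, hθv, hθθ, kθ, hkθ⟩ := H.exists_θ
  have hat : H.t * a * H.t⁻¹ = a⁻¹ := A.inv_of_fix_v ha hav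
  set b := θ * a * θ⁻¹ with hbdef
  have hb : b ∈ A.Om := by rw [hbdef, hkθ]; exact A.Om_conj (A.Qpow A.Qτ kθ) ha
  have hb1 : b ≠ 1 := fun e => ha1 (conj_eq_one_iff.mp e)
  have htvb : b * (H.t * H.v) = H.t * H.v * b := by
    rw [← hθv, hbdef, show θ * a * θ⁻¹ * (θ * H.v * θ⁻¹) = θ * (a * H.v) * θ⁻¹ by group, hav]; group
  have hbt : H.t * b * H.t⁻¹ = b⁻¹ := by
    rw [hbdef, show H.t * (θ * a * θ⁻¹) * H.t⁻¹ = H.t * θ * a * (H.t * θ)⁻¹ by group, ← hθt,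
      show θ * H.t * a * (θ * H.t)⁻¹ = θ * (H.t * a * H.t⁻¹) * θ⁻¹ by group, hat]
    group
  have hbv : H.v * b * H.v⁻¹ = b⁻¹ := by
    calc H.v * b * H.v⁻¹ = H.t * (H.t * H.v * b) * H.v⁻¹ := by
          rw [← mul_assoc H.t, ← mul_assoc H.t, H.tt, one_mul]
      _ = H.t * b * H.t⁻¹ := by rw [← htvb, H.ti]; group
      _ = b⁻¹ := hbt
  set E := Subgroup.closure ({H.h, a, b} : Set G) with hEdef
  have hhE : H.h ∈ E := Subgroup.subset_closure (by simp)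
  have haE : a ∈ E := Subgroup.subset_closure (by simp)
  have hbE : b ∈ E := Subgroup.subset_closure (by simp)
  have hEOm : E ≤ A.Om := (Subgroup.closure_le _).mpr (by
    rintro x (rfl | rfl | rfl)
    exacts [A.h_Om, ha, hb])
  have hft : ∀ x ∈ A.Om, x * H.t = H.t * x → x ∈ E := fun x hx h =>
    (Subgroup.zpowers_le.mpr hhE) (A.fix_t (A.Om_Q hx) hx.2 h)
  have hfv : ∀ x ∈ A.Om, x * H.v = H.v * x → x ∈ E := fun x hx h =>
    (Subgroup.zpowers_le.mpr haE) (A.fix_v (A.Om_Q hx) (A.Om_Q ha) (A.ord_l ha ha1) hx.2 h hav)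
  have hftv : ∀ x ∈ A.Om, x * (H.t * H.v) = H.t * H.v * x → x ∈ E := fun x hx h =>
    (Subgroup.zpowers_le.mpr hbE) (A.fix_tv (A.Om_Q hx) (A.Om_Q hb) (A.ord_l hb hb1) hx.2 h htvb)
  have hvh : H.v * H.h * H.v ∈ E := by
    have := H.vh; rw [H.vi] at this; rw [this]; exact inv_mem hhE
  have hEt : ∀ x ∈ E, H.t * x * H.t⁻¹ ∈ E := by
    intro x hx
    induction hx using Subgroup.closure_induction with
    | mem y hy =>
      rcases hy with rfl | rfl | rfl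
      · rw [← H.ht, mul_inv_cancel_right]; exact hhE
      · rw [hat]; exact inv_mem haE
      · rw [hbt]; exact inv_mem hbE
    | one => simp
    | mul x y _ _ hx hy =>
      rw [show H.t * (x * y) * H.t⁻¹ = H.t * x * H.t⁻¹ * (H.t * y * H.t⁻¹) by group]; exact mul_mem hx hy
    | inv x _ hx =>
      rw [show H.t * x⁻¹ * H.t⁻¹ = (H.t * x * H.t⁻¹)⁻¹ by group]; exact inv_mem hx
  have hO : ∀ {s x : G}, (∀ y ∈ A.Q, s * y * s⁻¹ ∈ A.Q) → s * s = 1 → x ∈ A.Om → s * x * s ∈ A.Om :=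
    fun {s x} hs hss hx => by simpa [inv_eq_of_mul_eq_one_right hss] using A.Om_conj hs hx
  have hQtv : ∀ y ∈ A.Q, H.t * H.v * y * (H.t * H.v)⁻¹ ∈ A.Q := fun y hy => by
    rw [show H.t * H.v * y * (H.t * H.v)⁻¹ = H.t * (H.v * y * H.v⁻¹) * H.t⁻¹ by group]
    exact A.Qt _ (A.Qv _ hy)
  have htv2 : H.t * H.v * (H.t * H.v) = 1 := by
    rw [show H.t * H.v * (H.t * H.v) = H.t * (H.v * H.t) * H.v by group, ← H.tv,
      show H.t * (H.t * H.v) * H.v = H.t * H.t * (H.v * H.v) by group, H.tt, H.vv, one_mul]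
  -- central elements
  have hcentral : ∀ z ∈ A.Om, z ∈ A.Z1 → z ∈ E := by
    intro z hz hzZ
    have hcq : ∀ {s : G}, (∀ y ∈ A.Q, s * y * s⁻¹ ∈ A.Q) → s * s = 1 →
        z * (s * z * s) * s = s * (z * (s * z * s)) := by
      intro s hs hss
      have hc : Commute z (s * z * s) := A.Z1_comm hzZ (A.Om_Q (hO hs hss hz))
      calc z * (s * z * s) * s = z * (s * z) * (s * s) := by group
        _ = s * (s * (z * (s * z))) := by rw [hss, mul_one, ← mul_assoc s s, hss, one_mul]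
        _ = s * ((s * z * s) * z) := by group
        _ = _ := by rw [hc.eq]
    set z1 := z * (H.t * z * H.t) with hz1
    set z2 := z * (H.v * z * H.v) with hz2
    set z3 := z * (H.t * H.v * z * (H.t * H.v)) with hz3
    have h1 : z1 ∈ E := hft _ (mul_mem hz (hO A.Qt H.tt hz)) (hcq A.Qt H.tt)
    have h2 : z2 ∈ E := hfv _ (mul_mem hz (hO A.Qv H.vv hz)) (hcq A.Qv H.vv)
    have h3 : z3 ∈ E := hftv _ (mul_mem hz (hO hQtv htv2 hz)) (hcq hQtv htv2)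
    have h4 : (H.t * z * H.t) * (H.v * z * H.v) ∈ E := by
      have e : (H.t * z * H.t) * (H.v * z * H.v) = H.t * z3 * H.t⁻¹ := by
        rw [hz3, H.ti]
        calc H.t * z * H.t * (H.v * z * H.v) = H.t * z * (H.t * H.v * z) * H.v * (H.t * H.t) := by
              rw [H.tt, mul_one]; group
          _ = H.t * z * (H.t * H.v * z) * (H.v * H.t) * H.t := by group
          _ = _ := by rw [← H.tv]; group
      rw [e]; exact hEt _ h3
    have hcc : Commute z (H.t * z * H.t) := A.Z1_comm hzZ (A.Om_Q (hO A.Qt H.tt hz))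
    have e : z * z = z1 * z2 * ((H.t * z * H.t) * (H.v * z * H.v))⁻¹ := by
      rw [hz1, hz2]
      calc z * z = z * (z * (H.t * z * H.t)) * (H.t * z * H.t)⁻¹ := by group
        _ = z * ((H.t * z * H.t) * z) * (H.t * z * H.t)⁻¹ := by rw [hcc.eq]
        _ = _ := by group
    exact CfsgLib.SuzukiRankOne.mem_of_sq_mem (A.odd_ord (A.Om_Q hz)) (e ▸ mul_mem (mul_mem h1 h2) (inv_mem h4))
  have hcomm : ∀ x ∈ A.Om, ∀ y ∈ A.Om, ⁅x, y⁆ ∈ E := fun x hx y hy =>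
    hcentral _ (A.Om_comm hx hy).1 (A.Om_comm hx hy).2
  have hprod : ∀ {s : G}, (∀ y ∈ A.Q, s * y * s⁻¹ ∈ A.Q) → (hss : s * s = 1) →
      (∀ x ∈ A.Om, x * s = s * x → x ∈ E) → ∀ g ∈ A.Om, g * (s * g * s) ∈ E := by
    intro s hs hss hfix g hg
    set x := g * (s * g * s) with hx
    have hxO : x ∈ A.Om := mul_mem hg (hO hs hss hg)
    have hmO : x⁻¹ * (s * x * s) ∈ A.Om := mul_mem (inv_mem hxO) (hO hs hss hxO)
    obtain ⟨k, -, hk2⟩ := exists_fix_twist hss (A.odd_ord (A.Om_Q hmO))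
    have e : x⁻¹ * (s * x * s) = ⁅(s * g * s)⁻¹, g⁻¹⁆ := by
      have hh : s * x * s = (s * g * s) * g := by
        rw [hx]
        calc s * (g * (s * g * s)) * s = s * g * s * g * (s * s) := by group
          _ = _ := by rw [hss, mul_one]
      rw [hh, hx, commutatorElement_def]; group
    have hmE : x⁻¹ * (s * x * s) ∈ E := e ▸ hcomm _ (inv_mem (hO hs hss hg)) _ (inv_mem hg)
    have h1 := hfix _ (mul_mem hxO (pow_mem hmO k)) hk2.eq
    exact (Subgroup.mul_mem_cancel_right E (pow_mem hmE k)).mp h1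
  have hOmE : A.Om ≤ E := by
    intro g hg
    have h1 := hprod A.Qt H.tt hft g hg
    have h2 := hprod A.Qv H.vv hfv g hg
    have h3 := hprod hQtv htv2 hftv g hg
    have h4 : (H.t * g * H.t) * (H.v * g * H.v) ∈ E := by
      have e : (H.t * g * H.t) * (H.v * g * H.v) = H.t * (g * (H.t * H.v * g * (H.t * H.v))) * H.t⁻¹ := by
        rw [H.ti]
        calc H.t * g * H.t * (H.v * g * H.v) = H.t * g * (H.t * H.v * g) * H.v * (H.t * H.t) := by
              rw [H.tt, mul_one]; group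
          _ = H.t * g * (H.t * H.v * g) * (H.v * H.t) * H.t := by group
          _ = _ := by rw [← H.tv]; group
      rw [e]; exact hEt _ h3
    have hc := hcomm _ (inv_mem hg) _ (hO A.Qt H.tt hg)
    have e : g * (H.t * g * H.t) * (g * (H.v * g * H.v)) * ((H.t * g * H.t) * (H.v * g * H.v))⁻¹ =
        g * g * ⁅g⁻¹, H.t * g * H.t⁆ := by
      rw [commutatorElement_def]; group
    have h5 := mul_mem (mul_mem h1 h2) (inv_mem h4)
    rw [e] at h5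
    exact CfsgLib.SuzukiRankOne.mem_of_sq_mem (A.odd_ord (A.Om_Q hg))
      ((Subgroup.mul_mem_cancel_right E hc).mp h5)
  -- the commutator of `a` and `b`
  obtain ⟨hcO, hcZ⟩ := A.Om_comm ha hb
  set c := ⁅a, b⁆ with hcdef
  have hca : Commute c a := A.Z1_comm hcZ (A.Om_Q ha)
  have hcb : Commute c b := A.Z1_comm hcZ (A.Om_Q hb)
  have hab : a * b = c * (b * a) := by rw [hcdef, commutatorElement_def]; group
  have hct : c * H.t = H.t * c := by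
    have h1 : H.t * c * H.t⁻¹ = c := by
      rw [hcdef, conjugate_commutatorElement, hat, hbt]
      have e := pow_swap hab hca hcb (-1) (-1)
      simp only [zpow_neg, zpow_one, neg_mul_neg, one_mul] at e
      have e2 : b⁻¹ * a⁻¹ = c⁻¹ * (a⁻¹ * b⁻¹) := by simpa using e
      rw [commutatorElement_def, inv_inv, inv_inv, show a⁻¹ * b⁻¹ = c * (b⁻¹ * a⁻¹) by rw [e2, mul_inv_cancel_left],
        show c * (b⁻¹ * a⁻¹) * a * b = c by group]
    exact (mul_inv_eq_iff_eq_mul.mp h1).symm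
  obtain ⟨r, hr⟩ := Subgroup.mem_zpowers_iff.mp (A.fix_t (A.Om_Q hcO) hcO.2 hct)
  have hhc : ∀ y ∈ A.Q, ∀ i : ℤ, Commute (H.h ^ i) y := fun y hy i =>
    (show Commute H.h y from (A.Qh y hy).symm).zpow_left i
  have haQ := A.Om_Q ha
  have hbQ := A.Om_Q hb
  -- coordinates
  let Cg : G → ℤ → ℤ → Prop := fun x j k => ∃ i : ℤ, x = H.h ^ i * (a ^ j * b ^ k)
  have hmul : ∀ {x y : G} {j k j' k' : ℤ}, Cg x j k → Cg y j' k' → Cg (x * y) (j + j') (k + k') := by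
    rintro x y j k j' k' ⟨i, rfl⟩ ⟨i', rfl⟩
    refine ⟨i + i' + r * (-(j' * k)), ?_⟩
    calc H.h ^ i * (a ^ j * b ^ k) * (H.h ^ i' * (a ^ j' * b ^ k'))
        = H.h ^ i * ((a ^ j * b ^ k) * H.h ^ i') * (a ^ j' * b ^ k') := by group
      _ = H.h ^ i * H.h ^ i' * (a ^ j * (b ^ k * a ^ j') * b ^ k') := by
          rw [← (hhc _ (mul_mem (zpow_mem haQ j) (zpow_mem hbQ k)) i').eq]; group
      _ = H.h ^ i * H.h ^ i' * (c ^ (-(j' * k)) * (a ^ j * a ^ j') * (b ^ k * b ^ k')) := by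
          rw [pow_swap hab hca hcb, ← mul_assoc (a ^ j), ← ((hca.zpow_left _).zpow_right j).eq]; group
      _ = _ := by rw [← hr, ← zpow_mul, zpow_add a, zpow_add b, zpow_add, zpow_add]; group
  have hcg1 : Cg 1 0 0 := ⟨0, by simp⟩
  have hinvC : ∀ {x : G} {j k : ℤ}, Cg x j k → Cg x⁻¹ (-j) (-k) := by
    intro x j k hx
    obtain ⟨e, he⟩ := hmul hx (⟨0, rfl⟩ : Cg (H.h ^ (0 : ℤ) * (a ^ (-j) * b ^ (-k))) (-j) (-k))
    simp only [add_neg_cancel, zpow_zero, mul_one, one_mul] at he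
    exact ⟨-e, by rw [inv_eq_iff_mul_eq_one.mpr (show x * ((a ^ (-j) * b ^ (-k)) * H.h ^ (-e)) = 1 by
      rw [← mul_assoc, he, ← zpow_add, add_neg_cancel, zpow_zero]),
      (hhc _ (mul_mem (zpow_mem haQ _) (zpow_mem hbQ _)) (-e)).eq]⟩
  have hform : ∀ x ∈ E, ∃ j k : ℤ, Cg x j k := by
    intro x hx
    induction hx using Subgroup.closure_induction with
    | mem y hy =>
      rcases hy with rfl | rfl | rfl
      · exact ⟨0, 0, 1, by simp⟩
      · exact ⟨1, 0, 0, by simp⟩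
      · exact ⟨0, 1, 0, by simp⟩
    | one => exact ⟨0, 0, hcg1⟩
    | mul x y _ _ hx hy =>
      obtain ⟨j, k, hx⟩ := hx
      obtain ⟨j', k', hy⟩ := hy
      exact ⟨_, _, hmul hx hy⟩
    | inv x _ hx =>
      obtain ⟨j, k, hx⟩ := hx
      exact ⟨_, _, hinvC hx⟩
  have hzp : ∀ {x : G} {j k : ℤ}, Cg x j k → ∀ n : ℤ, Cg (x ^ n) (n * j) (n * k) := by
    intro x j k hx n
    induction n using Int.induction_on with
    | zero => simpa using hcg1
    | succ n ih => simpa [zpow_add_one, add_mul] using hmul ih hx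
    | pred n ih =>
      rw [zpow_sub_one, show (-(n : ℤ) - 1) * j = -(n : ℤ) * j + -j by ring,
        show (-(n : ℤ) - 1) * k = -(n : ℤ) * k + -k by ring]
      exact hmul ih (hinvC hx)
  have hao := A.ord_l ha ha1
  have hbo := A.ord_l hb hb1
  have huniq : ∀ {x : G} {j k j' k' : ℤ}, Cg x j k → Cg x j' k' →
      (j : ZMod l) = j' ∧ (k : ZMod l) = k' := by
    intro x j k j' k' h1 h2
    obtain ⟨i, hi⟩ := hmul h1 (hinvC h2)
    rw [mul_inv_cancel] at hi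
    set J := j + -j'
    set K := k + -k'
    have h3 : a ^ J * b ^ K = H.h ^ (-i) := by rw [zpow_neg]; exact eq_inv_of_mul_eq_one_right hi.symm
    have h4 : (a ^ J)⁻¹ * (b ^ K)⁻¹ = H.h ^ (-i) := by
      have := congrArg (fun y => H.t * y * H.t⁻¹) h3
      rw [show H.t * (a ^ J * b ^ K) * H.t⁻¹ = H.t * a ^ J * H.t⁻¹ * (H.t * b ^ K * H.t⁻¹) by group,
        ← conj_zpow, ← conj_zpow, hat, hbt, inv_zpow, inv_zpow] at this
      rw [this, ← ((show Commute H.h H.t from H.ht).zpow_left (-i)).eq, mul_inv_cancel_right]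
    have h5 : a ^ J * a ^ J = (b ^ K * b ^ K)⁻¹ := by
      rw [← h3] at h4
      calc a ^ J * a ^ J = a ^ J * (a ^ J * b ^ K) * (b ^ K)⁻¹ := by group
        _ = _ := by rw [← h4]; group
    have h6 : H.v * (a ^ J * a ^ J) * H.v⁻¹ = a ^ J * a ^ J := by
      rw [← ((Commute.zpow_left hav J).mul_left (Commute.zpow_left hav J)).eq, mul_inv_cancel_right]
    have h7 : H.v * (b ^ K * b ^ K)⁻¹ * H.v⁻¹ = b ^ K * b ^ K := by
      rw [show H.v * (b ^ K * b ^ K)⁻¹ * H.v⁻¹ = ((H.v * b ^ K * H.v⁻¹) * (H.v * b ^ K * H.v⁻¹))⁻¹ by group,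
        ← conj_zpow, hbv, inv_zpow]
      group
    rw [h5, h7] at h6
    have hK : b ^ K = 1 := A.eq_one (zpow_mem hbQ K) (A.eq_one (mul_mem (zpow_mem hbQ K) (zpow_mem hbQ K))
      (by nth_rewrite 1 [h6]; exact inv_mul_cancel _))
    rw [hK, mul_one, inv_one] at h5
    have hJ : a ^ J = 1 := A.eq_one (zpow_mem haQ J) h5
    rw [← orderOf_dvd_iff_zpow_eq_one, hao, ← ZMod.intCast_zmod_eq_zero_iff_dvd] at hJ
    rw [← orderOf_dvd_iff_zpow_eq_one, hbo, ← ZMod.intCast_zmod_eq_zero_iff_dvd] at hK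
    simp only [J, K, Int.cast_add, Int.cast_neg] at hJ hK
    exact ⟨by linear_combination hJ, by linear_combination hK⟩
  have hτO : ∀ x ∈ A.Om, H.τ * x * H.τ⁻¹ ∈ E := fun x hx => hOmE (A.Om_conj A.Qτ hx)
  obtain ⟨x, y, hxy⟩ := hform _ (hτO a ha)
  obtain ⟨z, w, hzw⟩ := hform _ (hτO b hb)
  -- conjugation by `τ` is linear
  have hlin : ∀ {g : G} {j k : ℤ}, Cg g j k → Cg (H.τ * g * H.τ⁻¹) (j * x + k * z) (j * y + k * w) := by
    rintro g j k ⟨i, rfl⟩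
    obtain ⟨i', hi'⟩ := hmul (hzp hxy j) (hzp hzw k)
    refine ⟨i + i', ?_⟩
    rw [show H.τ * (H.h ^ i * (a ^ j * b ^ k)) * H.τ⁻¹ =
      (H.τ * H.h ^ i * H.τ⁻¹) * ((H.τ * a ^ j * H.τ⁻¹) * (H.τ * b ^ k * H.τ⁻¹)) by group,
      ← conj_zpow, ← conj_zpow, ← conj_zpow, H.τh, mul_inv_cancel_right, hi', ← mul_assoc, ← zpow_add]
  have hpm : ∀ {g : G} {j k : ℤ}, Cg g j k → Cg (H.v * g * H.v⁻¹) j (-k) := by
    rintro g j k ⟨i, rfl⟩
    refine ⟨-i, ?_⟩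
    rw [show H.v * (H.h ^ i * (a ^ j * b ^ k)) * H.v⁻¹ =
      (H.v * H.h ^ i * H.v⁻¹) * ((H.v * a ^ j * H.v⁻¹) * (H.v * b ^ k * H.v⁻¹)) by group,
      ← conj_zpow, ← conj_zpow, ← conj_zpow, H.vh, ← hav, mul_inv_cancel_right, hbv, inv_zpow', inv_zpow']
  have hsq : H.τ * H.v * (H.τ * H.v) = H.t := by
    calc H.τ * H.v * (H.τ * H.v) = H.τ * (H.v * H.τ * H.v⁻¹) * (H.v * H.v) := by group
      _ = H.t := by rw [H.vτ, H.vv, mul_one, mul_inv_cancel_left]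
  have hσ : ∀ g : G, H.τ * (H.v * (H.τ * (H.v * g * H.v⁻¹) * H.τ⁻¹) * H.v⁻¹) * H.τ⁻¹ = H.t * g * H.t⁻¹ := fun g => by
    rw [← hsq]; group
  have hga : Cg a 1 0 := ⟨0, by simp⟩
  have hgb : Cg b 0 1 := ⟨0, by simp⟩
  have hta : Cg (H.t * a * H.t⁻¹) (-1) 0 := hat.symm ▸ ⟨0, by simp⟩
  have htb : Cg (H.t * b * H.t⁻¹) 0 (-1) := hbt.symm ▸ ⟨0, by simp⟩
  obtain ⟨ea1, ea2⟩ := huniq (hσ a ▸ hlin (hpm (hlin (hpm hga)))) hta
  obtain ⟨eb1, eb2⟩ := huniq (hσ b ▸ hlin (hpm (hlin (hpm hgb)))) htb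
  push_cast at ea1 ea2 eb1 eb2
  have hdet : (x : ZMod l) * w - z * y = -1 := by
    by_cases hxw : (x : ZMod l) = w
    · linear_combination ea1 - (x : ZMod l) * hxw
    exfalso
    have hy0 : (y : ZMod l) = 0 :=
      (mul_eq_zero.mp (show ((x : ZMod l) - w) * y = 0 by linear_combination ea2)).resolve_left (sub_ne_zero.mpr hxw)
    have hz0 : (z : ZMod l) = 0 :=
      (mul_eq_zero.mp (show ((w : ZMod l) - x) * z = 0 by linear_combination eb1)).resolve_left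
        (sub_ne_zero.mpr (Ne.symm hxw))
    have hx2 : (x : ZMod l) * x = -1 := by linear_combination ea1 + (z : ZMod l) * hy0
    have hn : ∀ n : ℕ, ∃ j k : ℤ, Cg (H.τ ^ n * a * (H.τ ^ n)⁻¹) j k ∧ (j : ZMod l) = (x : ZMod l) ^ n ∧
        (k : ZMod l) = 0 := by
      intro n
      induction n with
      | zero => exact ⟨1, 0, by simpa using hga, by simp, by simp⟩
      | succ n ih =>
        obtain ⟨j, k, h1, h2, h3⟩ := ih
        refine ⟨j * x + k * z, j * y + k * w, ?_, by push_cast [h2, h3]; ring, by push_cast [h3, hy0]; ring⟩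
        rw [show H.τ ^ (n + 1) * a * (H.τ ^ (n + 1))⁻¹ = H.τ * (H.τ ^ n * a * (H.τ ^ n)⁻¹) * H.τ⁻¹ by
          rw [pow_succ']; group]
        exact hlin h1
    obtain ⟨j, k, h1, h2, -⟩ := hn (2 ^ (H.c - 1))
    rw [H.τt] at h1
    obtain ⟨e1, -⟩ := huniq h1 hta
    rw [h2, show H.c - 1 = (H.c - 3) + 2 by have := H.hc; omega, pow_add, mul_comm, pow_mul,
      show (x : ZMod l) ^ (2 ^ 2) = 1 by rw [show (2 : ℕ) ^ 2 = 4 from rfl]; linear_combination ((x : ZMod l) * x - 1) * hx2,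
      one_pow] at e1
    push_cast at e1
    have h22 : ((2 : ℕ) : ZMod l) = 0 := by push_cast; linear_combination e1
    rw [CharP.cast_eq_zero_iff (ZMod l) l] at h22
    exact A.hl2 ((Nat.prime_dvd_prime_iff_eq hl.out Nat.prime_two).mp h22)
  have hc1 : c = 1 := by
    obtain ⟨i1, e1⟩ := hxy
    obtain ⟨i2, e2⟩ := hzw
    have hconj : H.τ * c * H.τ⁻¹ = c := by rw [← hr, ← conj_zpow, H.τh, mul_inv_cancel_right]
    have hcc : ∀ g ∈ A.Q, ∀ n : ℤ, Commute (c ^ n) g := fun g hg n => (A.Z1_comm hcZ hg).zpow_left n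
    have hcom : ∀ i j k i' j' k' : ℤ, H.h ^ i * (a ^ j * b ^ k) * (H.h ^ i' * (a ^ j' * b ^ k')) =
        c ^ (j * k' - j' * k) * (H.h ^ i' * (a ^ j' * b ^ k') * (H.h ^ i * (a ^ j * b ^ k))) := by
      intro i j k i' j' k'
      have key : ∀ j k j' k' : ℤ, (a ^ j * b ^ k) * (a ^ j' * b ^ k') =
          c ^ (-(j' * k)) * (a ^ (j + j') * b ^ (k + k')) := fun j k j' k' => by
        calc a ^ j * b ^ k * (a ^ j' * b ^ k') = a ^ j * (b ^ k * a ^ j') * b ^ k' := by group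
          _ = _ := by
            rw [pow_swap hab hca hcb, ← mul_assoc (a ^ j), ← ((hca.zpow_left _).zpow_right j).eq, zpow_add,
              zpow_add]
            group
      have hcm : ∀ (i : ℤ) {X Y : G}, X ∈ A.Q → Y ∈ A.Q → X * (H.h ^ i * Y) = H.h ^ i * (X * Y) :=
        fun i X Y hX _ => by rw [← mul_assoc, ← (hhc X hX i).eq, mul_assoc]
      rw [mul_assoc (H.h ^ i), hcm i' (mul_mem (zpow_mem haQ j) (zpow_mem hbQ k))
          (mul_mem (zpow_mem haQ j') (zpow_mem hbQ k')),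
        mul_assoc (H.h ^ i'), hcm i (mul_mem (zpow_mem haQ j') (zpow_mem hbQ k'))
          (mul_mem (zpow_mem haQ j) (zpow_mem hbQ k)), key, key, add_comm j' j, add_comm k' k,
        ← mul_assoc (H.h ^ i) (H.h ^ i'), ← mul_assoc (H.h ^ i') (H.h ^ i), ← zpow_add, ← zpow_add, add_comm i' i]
      rw [← mul_assoc (c ^ (j * k' - j' * k)), (hcc _ (zpow_mem A.hQ _) _).eq, mul_assoc, ← mul_assoc (c ^ _) (c ^ _),
        ← zpow_add, show j * k' - j' * k + -(j * k') = -(j' * k) by ring]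
    have h1 := hcom i1 x y i2 z w
    rw [← e1, ← e2] at h1
    have h2 : c = c ^ (x * w - z * y) := by
      refine mul_right_cancel (b := (H.τ * b * H.τ⁻¹) * (H.τ * a * H.τ⁻¹)) ?_
      rw [← h1]
      nth_rewrite 1 [← hconj]
      rw [show H.τ * a * H.τ⁻¹ * (H.τ * b * H.τ⁻¹) = H.τ * (a * b) * H.τ⁻¹ by group, hab]
      group
    have h3 : c ^ (x * w - z * y) = c⁻¹ := by
      rw [← zpow_neg_one, ← mul_inv_eq_one, ← zpow_neg, ← zpow_add, ← orderOf_dvd_iff_zpow_eq_one]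
      refine (Int.natCast_dvd_natCast.mpr (orderOf_dvd_of_pow_eq_one hcO.2)).trans ?_
      rw [← ZMod.intCast_zmod_eq_zero_iff_dvd]
      push_cast
      linear_combination hdet
    rw [h3] at h2
    exact A.eq_one (A.Om_Q hcO) (by nth_rewrite 1 [h2]; exact inv_mul_cancel _)
  exact ⟨{
    a := a, b := b, aQ := haQ, bQ := hbQ, ao := hao, bo := hbo, av := hav, at_ := hat, bv := hbv, bt := hbt
    ab := by rw [hab, hc1, one_mul]
    τE := fun g hg => hτO g (hEOm hg) }⟩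

end AxQ

end CfsgLib.GU2Cent
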