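import Cfsg.Agent.Lib.Fusion.GUTwoSylow
import Cfsg.Agent.Lib.HermCount
import Cfsg.Agent.Lib.BrauerOrder.Defs

/-!
The Sylow `2`-subgroup and the centraliser of the four-group for a map of `GU₂(q)` onto an involution centraliser
with central kernel of odd order.
-/

set_option autoImplicit false
set_option linter.unusedSectionVars false
set_option linter.style.haveILetI false

namespace CfsgLib.GU2Cent

open Matrix CfsgLib.GUTwoSylow

universe u v

variable {G : Type u} [Group G] {F : Type v} [Field F] [Fintype F] {q : ℕ}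

/-- The hypothesis: `zT` is the central involution, `uT` the reflection. -/
structure GUHyp (f : ↥(Cfsg.GU 2 F q) →* G) (zT uT : Cfsg.GU 2 F q) : Prop where
  hF : Fintype.card F = q ^ 2
  hodd : Odd q
  zval : (zT : GL (Fin 2) F) = diagHom (-1, -1)
  uval : (uT : GL (Fin 2) F) = reflM
  range : f.range = Subgroup.centralizer {f zT}
  kerc : f.ker ≤ Subgroup.center (Cfsg.GU 2 F q)
  kero : Odd (Nat.card f.ker)

/-- The four-group of diagonal signs. -/
def fourGU (f : ↥(Cfsg.GU 2 F q) →* G) (zT uT : Cfsg.GU 2 F q) : Subgroup G :=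
  Subgroup.closure {f zT, f uT}

namespace GUHyp

variable {f : ↥(Cfsg.GU 2 F q) →* G} {zT uT : Cfsg.GU 2 F q} (hf : GUHyp f zT uT)
include hf

theorem two_ne : (2 : F) ≠ 0 := by
  intro h
  haveI : CharP F 2 := CharTwo.of_one_ne_zero_of_two_eq_zero one_ne_zero h
  have he : Even (Fintype.card F) := by
    obtain ⟨n, -, hn⟩ := FiniteField.card F 2
    rw [hn]; exact (Nat.even_pow' n.ne_zero).mpr even_two
  rw [hf.hF] at he
  exact Nat.not_even_iff_odd.mpr hf.hodd.pow he

theorem zT_val : zT.1.1 = (-1 : Matrix (Fin 2) (Fin 2) F) := by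
  rw [hf.zval, diagHom_val]
  ext i j
  fin_cases i <;> fin_cases j <;> simp

theorem zT_comm (g : Cfsg.GU 2 F q) : g * zT = zT * g := by
  refine Subtype.ext (Units.ext ?_)
  show g.1.1 * zT.1.1 = zT.1.1 * g.1.1
  rw [hf.zT_val, mul_neg_one, neg_one_mul]

theorem zT_sq : zT * zT = 1 := by
  refine Subtype.ext (Units.ext ?_)
  show zT.1.1 * zT.1.1 = 1
  rw [hf.zT_val, neg_one_mul, neg_neg]

theorem uT_sq : uT * uT = 1 := by
  refine Subtype.ext ?_
  show (uT : GL (Fin 2) F) * (uT : GL (Fin 2) F) = 1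
  rw [hf.uval, reflM_sq]

theorem uT_val : uT.1.1 = !![1, 0; 0, -1] := by rw [hf.uval]; rfl

/-- Conjugates of square roots of one commute as soon as their images do. -/
theorem comm_iff {g h : Cfsg.GU 2 F q} (hh : h * h = 1) : f g * f h = f h * f g ↔ g * h = h * g := by
  refine ⟨fun e => ?_, fun e => by rw [← map_mul, e, map_mul]⟩
  have hk : g * h * g⁻¹ * h⁻¹ ∈ f.ker := by
    rw [MonoidHom.mem_ker, map_mul, map_mul, map_mul, map_inv, map_inv, e]; group
  set k := g * h * g⁻¹ * h⁻¹ with hkd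
  have hkc : k * h = h * k := (Subgroup.mem_center_iff.mp (hf.kerc hk) h).symm
  have h2 : k * k = 1 := by
    have e1 : g * h * g⁻¹ = k * h := by rw [hkd]; group
    have e2 : (k * h) * (k * h) = 1 := by
      rw [← e1, show g * h * g⁻¹ * (g * h * g⁻¹) = g * (h * h) * g⁻¹ by group, hh]; group
    rw [show k * h * (k * h) = k * (h * k) * h by group, ← hkc, show k * (k * h) * h = k * k * (h * h) by group,
      hh, mul_one] at e2
    exact e2
  have h1 : k = 1 := orderOf_eq_one_iff.mp (Nat.eq_one_of_dvd_coprimes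
    (Nat.coprime_two_left.mpr (hf.kero.of_dvd_nat (Subgroup.orderOf_dvd_natCard _ hk)))
    (orderOf_dvd_of_pow_eq_one (show k ^ 2 = 1 by rw [pow_two, h2])) dvd_rfl)
  rw [hkd] at h1
  calc g * h = g * h * g⁻¹ * h⁻¹ * (h * g) := by group
    _ = h * g := by rw [h1, one_mul]

/-- The elements commuting with the reflection are diagonal. -/
theorem uT_comm {g : Cfsg.GU 2 F q} : g * uT = uT * g ↔ g.1.1 0 1 = 0 ∧ g.1.1 1 0 = 0 := by
  constructor
  · intro e
    have e' : g.1.1 * uT.1.1 = uT.1.1 * g.1.1 := congrArg (fun x : Cfsg.GU 2 F q => x.1.1) e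
    rw [hf.uT_val] at e'
    have h01 := congrFun (congrFun e' 0) 1
    have h10 := congrFun (congrFun e' 1) 0
    simp [Matrix.mul_apply, Fin.sum_univ_two] at h01 h10
    exact ⟨mul_left_cancel₀ hf.two_ne (by linear_combination -h01),
      mul_left_cancel₀ hf.two_ne (by linear_combination h10)⟩
  · rintro ⟨h1, h2⟩
    refine Subtype.ext (Units.ext ?_)
    show g.1.1 * uT.1.1 = uT.1.1 * g.1.1
    rw [hf.uT_val]
    ext i j
    fin_cases i <;> fin_cases j <;> simp [Matrix.mul_apply, Fin.sum_univ_two, h1, h2]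

theorem fzT_sq : f zT * f zT = 1 := by rw [← map_mul, hf.zT_sq, map_one]

theorem fuT_sq : f uT * f uT = 1 := by rw [← map_mul, hf.uT_sq, map_one]

theorem inj_two {g : Cfsg.GU 2 F q} (hg : g * g = 1) (h : f g = 1) : g = 1 :=
  orderOf_eq_one_iff.mp (Nat.eq_one_of_dvd_coprimes
    (Nat.coprime_two_left.mpr (hf.kero.of_dvd_nat (Subgroup.orderOf_dvd_natCard _ (f.mem_ker.mpr h))))
    (orderOf_dvd_of_pow_eq_one (show g ^ 2 = 1 by rw [pow_two, hg])) dvd_rfl)

theorem zT_ne : zT ≠ 1 := fun e => by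
  have h := congrArg (fun x : Cfsg.GU 2 F q => x.1.1 0 0) e
  simp only [hf.zT_val] at h
  simp at h
  exact hf.two_ne (by linear_combination -h)

theorem uT_ne : uT ≠ 1 ∧ uT ≠ zT ∧ zT * uT ≠ 1 := by
  have key : ∀ x : Cfsg.GU 2 F q, x.1.1 0 0 ≠ x.1.1 1 1 → x ≠ 1 ∧ x ≠ zT := fun x hx =>
    ⟨fun e => hx (by rw [e]; simp), fun e => hx (by rw [e, hf.zT_val]; simp)⟩
  have h1 : uT.1.1 0 0 ≠ uT.1.1 1 1 := by
    rw [hf.uT_val]; simp
    exact fun h => hf.two_ne (by linear_combination h)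
  refine ⟨(key uT h1).1, (key uT h1).2, fun e => (key uT h1).2 ?_⟩
  rw [eq_inv_of_mul_eq_one_right e, inv_eq_of_mul_eq_one_right hf.zT_sq]

theorem fzT_ne : f zT ≠ 1 := fun e => hf.zT_ne (hf.inj_two hf.zT_sq e)

theorem mem_four {x : G} : x ∈ fourGU f zT uT ↔ x = 1 ∨ x = f zT ∨ x = f uT ∨ x = f zT * f uT := by
  have hc : f uT * f zT = f zT * f uT := by rw [← map_mul, hf.zT_comm uT, map_mul]
  constructor
  · intro hx
    induction hx using Subgroup.closure_induction with
    | mem y hy => rcases hy with rfl | rfl <;> simp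
    | one => exact Or.inl rfl
    | mul a b _ _ ha hb =>
      rcases ha with rfl | rfl | rfl | rfl <;> rcases hb with rfl | rfl | rfl | rfl <;>
        simp [hc, mul_assoc, hf.fzT_sq, hf.fuT_sq,
          show f zT * (f zT * f uT) = f uT by rw [← mul_assoc, hf.fzT_sq, one_mul],
          show f uT * (f zT * f uT) = f zT by rw [← mul_assoc, hc, mul_assoc, hf.fuT_sq, mul_one]]
    | inv a _ ha =>
      rcases ha with rfl | rfl | rfl | rfl <;>
        simp [inv_eq_of_mul_eq_one_right hf.fzT_sq, inv_eq_of_mul_eq_one_right hf.fuT_sq, hc]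
  · have h1 : f zT ∈ fourGU f zT uT := Subgroup.subset_closure (by simp)
    have h2 : f uT ∈ fourGU f zT uT := Subgroup.subset_closure (by simp)
    rintro (rfl | rfl | rfl | rfl)
    · exact one_mem _
    · exact h1
    · exact h2
    · exact mul_mem h1 h2

theorem four_klein : IsKleinFour (fourGU f zT uT) := by
  obtain ⟨hu1, huz, hzu⟩ := hf.uT_ne
  have hne1 : f uT ≠ 1 := fun e => hu1 (hf.inj_two hf.uT_sq e)
  have hne3 : f zT * f uT ≠ 1 := fun e => hzu (hf.inj_two (by
    rw [show zT * uT * (zT * uT) = zT * (uT * zT) * uT by group, hf.zT_comm uT,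
      show zT * (zT * uT) * uT = zT * zT * (uT * uT) by group, hf.zT_sq, hf.uT_sq, one_mul]) (by rw [map_mul, e]))
  have hne2 : f zT ≠ f uT := fun e => hne3 (by rw [e, hf.fuT_sq])
  haveI : Nontrivial (fourGU f zT uT) := ⟨⟨⟨_, hf.mem_four.mpr (Or.inr (Or.inl rfl))⟩, 1, fun e => hf.fzT_ne
    (congrArg Subtype.val e)⟩⟩
  refine ⟨?_, (Monoid.exponent_eq_prime_iff Nat.prime_two).mpr fun g hg => orderOf_eq_prime ?_ hg⟩
  · rw [show Nat.card (fourGU f zT uT) = Nat.card (fourGU f zT uT : Set G) from rfl, Nat.card_coe_set_eq,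
      show (fourGU f zT uT : Set G) = {1, f zT, f uT, f zT * f uT} from Set.ext fun x => by simp [hf.mem_four]]
    rw [Set.ncard_insert_of_notMem, Set.ncard_insert_of_notMem, Set.ncard_pair]
    · exact fun e => hf.fzT_ne (mul_right_cancel (e.symm.trans (one_mul _).symm))
    · simp only [Set.mem_insert_iff, Set.mem_singleton_iff, not_or]
      exact ⟨hne2, fun e => hne1 (mul_left_cancel (e.symm.trans (mul_one _).symm))⟩
    · simp only [Set.mem_insert_iff, Set.mem_singleton_iff, not_or]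
      exact ⟨hf.fzT_ne.symm, hne1.symm, hne3.symm⟩
  · refine Subtype.ext ?_
    rw [Subgroup.coe_pow, pow_two, OneMemClass.coe_one]
    rcases hf.mem_four.mp g.2 with e | e | e | e <;> rw [e]
    · simp
    · exact hf.fzT_sq
    · exact hf.fuT_sq
    · rw [Commute.mul_mul_mul_comm (show Commute (f uT) (f zT) by
        show _ = _; rw [← map_mul, hf.zT_comm uT, map_mul]), hf.fzT_sq, hf.fuT_sq, one_mul]

theorem not_comm : ¬ IsMulCommutative G := fun h => by
  let sw : Cfsg.GU 2 F q := ⟨swapM, swapM_mem hf.hF⟩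
  have e : f sw * f uT = f uT * f sw := h.is_comm.comm _ _
  have := (hf.uT_comm.mp ((hf.comm_iff hf.uT_sq).mp e)).1
  simp [sw, swapM] at this

theorem mem_range {x : G} : x ∈ f.range ↔ x * f zT = f zT * x := by
  rw [hf.range, Subgroup.mem_centralizer_singleton_iff]

/-- The order of the image of a subgroup containing the kernel. -/
theorem card_map {D : Subgroup (Cfsg.GU 2 F q)} (hD : f.ker ≤ D) :
    Nat.card (D.map f) * Nat.card f.ker = Nat.card D := by
  rw [← Subgroup.card_mul_index (f.ker.subgroupOf D), ← MonoidHom.ker_domRestrict, Subgroup.index_ker,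
    MonoidHom.ker_domRestrict, Nat.card_congr (Subgroup.subgroupOfEquivOfLe hD).toEquiv, mul_comm]
  congr 1
  refine congrArg (fun K : Subgroup G => Nat.card K) ?_
  ext x
  exact ⟨fun ⟨d, hd, e⟩ => ⟨⟨d, hd⟩, e⟩, fun ⟨d, e⟩ => ⟨d, d.2, e⟩⟩

/-- The centraliser order. -/
theorem card_cent : Nat.card (Subgroup.centralizer ({f zT} : Set G)) * Nat.card f.ker =
    q * ((q + 1) * (q ^ 2 - 1)) := by
  rw [← hf.range, MonoidHom.range_eq_map, hf.card_map le_top, Subgroup.card_top, card_GU2 hf.hF]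

/-- The order of the centraliser of the four-group. -/
theorem card_four : Nat.card (Subgroup.centralizer (fourGU f zT uT : Set G)) * Nat.card f.ker = (q + 1) ^ 2 := by
  set D := Subgroup.centralizer ({uT} : Set (Cfsg.GU 2 F q)) with hD
  have hmemD : ∀ g, g ∈ D ↔ g.1.1 0 1 = 0 ∧ g.1.1 1 0 = 0 := fun g => by
    rw [hD, Subgroup.mem_centralizer_singleton_iff, hf.uT_comm]
  have hker : f.ker ≤ D := fun k hk =>
    Subgroup.mem_centralizer_singleton_iff.mpr (Subgroup.mem_center_iff.mp (hf.kerc hk) uT).symm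
  have hmap : Subgroup.centralizer (fourGU f zT uT : Set G) = D.map f := by
    ext x
    constructor
    · intro hx
      obtain ⟨g, rfl⟩ := hf.mem_range.mpr (hx (f zT) (hf.mem_four.mpr (by simp))).symm
      exact ⟨g, Subgroup.mem_centralizer_singleton_iff.mpr
        ((hf.comm_iff hf.uT_sq).mp (hx (f uT) (hf.mem_four.mpr (by simp))).symm), rfl⟩
    · rintro ⟨g, hg, rfl⟩
      have e1 : f g * f zT = f zT * f g := by rw [← map_mul, hf.zT_comm g, map_mul]
      have e2 : f g * f uT = f uT * f g := by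
        rw [← map_mul, Subgroup.mem_centralizer_singleton_iff.mp hg, map_mul]
      intro a ha
      rcases hf.mem_four.mp ha with rfl | rfl | rfl | rfl
      · simp
      · exact e1.symm
      · exact e2.symm
      · rw [mul_assoc, ← e2, ← mul_assoc, ← e1, mul_assoc]
  have hq1 := (UnitaryBasic.frob_exists hf.hF).1
  have hnorm : ∀ g ∈ D, g.1.1 0 0 ^ (q + 1) = 1 ∧ g.1.1 1 1 ^ (q + 1) = 1 := fun g hg => by
    obtain ⟨h1, h2⟩ := (hmemD g).mp hg
    have k0 := g.2 (Pi.single 0 1) (Pi.single 0 1)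
    have k1 := g.2 (Pi.single 1 1) (Pi.single 1 1)
    change Cfsg.hermForm 2 F q (g.1.1 *ᵥ _) (g.1.1 *ᵥ _) = _ at k0 k1
    simp [Cfsg.hermForm, Fin.sum_univ_two, Matrix.mulVec_single, h1, h2, zero_pow (show q ≠ 0 by omega)] at k0 k1
    exact ⟨by rw [pow_succ']; exact k0, by rw [pow_succ']; exact k1⟩
  rw [hmap, hf.card_map hker, pow_two, ← HermCount.card_fibre hf.hF (one_ne_zero) (one_pow q), ← Nat.card_prod]
  refine Nat.card_eq_of_bijective (fun g : D => ((⟨g.1.1.1 0 0, (hnorm g.1 g.2).1⟩,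
    ⟨g.1.1.1 1 1, (hnorm g.1 g.2).2⟩) : {x : F // x ^ (q + 1) = 1} × {x : F // x ^ (q + 1) = 1})) ⟨?_, ?_⟩
  · intro g g' e
    simp only [Prod.mk.injEq, Subtype.mk.injEq] at e
    obtain ⟨h1, h2⟩ := (hmemD g.1).mp g.2
    obtain ⟨h1', h2'⟩ := (hmemD g'.1).mp g'.2
    refine Subtype.ext (Subtype.ext (Units.ext ?_))
    ext i j
    fin_cases i <;> fin_cases j <;> simp [h1, h2, h1', h2', e.1, e.2]
  · rintro ⟨⟨a, ha⟩, ⟨b, hb⟩⟩
    have ha0 : a ≠ 0 := fun h => by rw [h, zero_pow (by omega)] at ha; exact zero_ne_one ha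
    have hb0 : b ≠ 0 := fun h => by rw [h, zero_pow (by omega)] at hb; exact zero_ne_one hb
    refine ⟨⟨⟨diagHom (Units.mk0 a ha0, Units.mk0 b hb0),
      diagHom_mem hf.hF (Units.ext (by simp [ha])) (Units.ext (by simp [hb]))⟩,
      (hmemD _).mpr ⟨by simp [diagHom_val], by simp [diagHom_val]⟩⟩, ?_⟩
    simp [diagHom_val]

end GUHyp

end CfsgLib.GU2Cent
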