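import Cfsg.Agent.Lib.GU2Cent.Sylow
import Cfsg.Agent.Lib.GU2Cent.SLOdd
import Cfsg.Agent.Lib.GU2Cent.Arith
import Cfsg.Agent.Lib.GL2Cent.Formula
import Cfsg.Agent.S0281
import Mathlib.FieldTheory.Finite.GaloisField

/-!
Brauer's order formula for an involution centraliser `GU₂(q)/Z`.
-/

set_option autoImplicit false
set_option linter.unusedSectionVars false
set_option linter.style.haveILetI false

namespace CfsgLib.GU2Cent

open Matrix CfsgLib.GUTwoSylow

universe u v

variable {G : Type u} [Group G] [Finite G] [IsSimpleGroup G] {F : Type v} [Field F] [Fintype F] {q : ℕ}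

namespace GUHyp

variable {f : ↥(Cfsg.GU 2 F q) →* G} {zT uT : Cfsg.GU 2 F q} (hf : GUHyp f zT uT)
include hf

/-- The determinant one part gives a normal `SL₂(q)` modulo the odd core. -/
theorem sl_normal (K : Type) [Field K] [Fintype K] (hK : Fintype.card K = q) :
    ∃ N : Subgroup (↥(Subgroup.centralizer ({f zT} : Set G)) ⧸
      Cfsg.oddCore ↥(Subgroup.centralizer ({f zT} : Set G))),
    N.Normal ∧ Nonempty (↥N ≃* Matrix.SpecialLinearGroup (Fin 2) K) := by
  classical
  set C := Subgroup.centralizer ({f zT} : Set G)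
  set O := Cfsg.oddCore ↥C
  let ψ : ↥(Cfsg.GU 2 F q) →* C := f.codRestrict C fun g =>
    Subgroup.mem_centralizer_singleton_iff.mpr (hf.mem_range.mp ⟨g, rfl⟩)
  have hψ : Function.Surjective ψ := fun x => by
    obtain ⟨g, hg⟩ := MonoidHom.mem_range.mp (hf.range.symm ▸ x.2 : (x : G) ∈ f.range)
    exact ⟨g, Subtype.ext hg⟩
  let π : ↥(Cfsg.GU 2 F q) →* C ⧸ O := (QuotientGroup.mk' O).comp ψ
  have hπ : Function.Surjective π := (QuotientGroup.mk'_surjective O).comp hψ
  obtain ⟨e⟩ := Cfsg.Agent.S0281.result hf.hF hK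
  let j : ↥(Cfsg.SU 2 F q) →* ↥(Cfsg.GU 2 F q) :=
    (Matrix.SpecialLinearGroup.toGL.comp (Cfsg.SU 2 F q).subtype).codRestrict _ fun g => g.2
  have hj : Function.Injective j := fun a b h =>
    Subtype.ext (Matrix.SpecialLinearGroup.toGL_injective (congrArg Subtype.val h))
  have hjr : j.range = (Matrix.GeneralLinearGroup.det.comp (Cfsg.GU 2 F q).subtype).ker := by
    ext x
    constructor
    · rintro ⟨y, rfl⟩
      exact Units.ext y.1.2
    · intro hx
      exact ⟨⟨⟨x.1.1, congrArg Units.val hx⟩, x.2⟩, Subtype.ext (Units.ext rfl)⟩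
  haveI hjn : j.range.Normal := hjr ▸ inferInstance
  refine ⟨j.range.map π, hjn.map π hπ, ?_⟩
  let φ : Matrix.SpecialLinearGroup (Fin 2) K →* C ⧸ O := (π.comp j).comp e.symm.toMonoidHom
  have hinj : Function.Injective φ := by
    refine (MonoidHom.ker_eq_bot_iff φ).mp (sl2_odd_normal (hK ▸ hf.hodd) φ.ker fun g hg => ?_)
    set x := j (e.symm g) with hx
    have hxO : ψ x ∈ O := (QuotientGroup.eq_one_iff _).mp hg
    have hgx : orderOf g = orderOf x := by
      rw [hx, orderOf_injective j hj, MulEquiv.orderOf_eq]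
    rw [hgx]
    have hm : Odd (Nat.card O) := CfsgLib.odd_card_oddCore
    have h1 : x ^ Nat.card O ∈ f.ker := by
      rw [MonoidHom.mem_ker]
      have h2 := congrArg (fun y : O => ((y : C) : G)) (pow_card_eq_one' (x := (⟨ψ x, hxO⟩ : O)))
      rw [map_pow]
      simp only [Subgroup.coe_pow, OneMemClass.coe_one] at h2
      exact h2
    have h3 : x ^ (Nat.card O * Nat.card f.ker) = 1 := by
      rw [pow_mul]
      exact Subtype.mk_eq_mk.mp (pow_card_eq_one' (x := (⟨x ^ Nat.card O, h1⟩ : f.ker)))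
    exact (hm.mul hf.kero).of_dvd_nat (orderOf_dvd_of_pow_eq_one h3)
  have hrange : φ.range = j.range.map π := by
    rw [MonoidHom.range_comp, MonoidHom.range_eq_top.mpr e.symm.surjective, ← MonoidHom.range_eq_map,
      MonoidHom.range_comp]
  exact ⟨((MonoidHom.ofInjective hinj).trans (MulEquiv.subgroupCongr hrange)).symm⟩

/-- The order formula: the index when `q ≡ 3 mod 4`, the degree equations when `q ≡ 1 mod 4`. -/
theorem index_cases {p : ℕ} [hp : Fact p.Prime] {n : ℕ} (hq : q = p ^ n) (hn : n ≠ 0) :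
    Odd (Subgroup.centralizer ({f zT} : Set G)).index ∧
    (q % 4 = 3 → (Subgroup.centralizer ({f zT} : Set G)).index = q ^ 2 * (q ^ 2 - q + 1)) ∧
    (q % 4 = 1 → ∃ B C : ℤ, B ≠ 0 ∧ B ≠ 1 ∧ C * ((q : ℤ) ^ 2 - B) = (q : ℤ) ^ 2 * (B - 1) ∧
      ((Subgroup.centralizer ({f zT} : Set G)).index : ℤ) * (B - q) ^ 2 =
        (q : ℤ) * ((q : ℤ) - 1) ^ 3 * B * (B - 1)) := by
  classical
  haveI := Fintype.ofFinite G
  haveI : Fintype ↥(Subgroup.centralizer ({f zT} : Set G)) := Fintype.ofFinite _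
  haveI : Fact (Nat.Prime 2) := ⟨Nat.prime_two⟩
  obtain ⟨S, hzc, htS, hUS, hQD, hW⟩ := hf.sylow_data
  have hqodd : Odd q := hf.hodd
  have hmodd := hqodd
  rw [Nat.odd_iff] at hmodd
  have hp2 : p ≠ 2 := fun e => by
    rw [hq, e] at hqodd
    exact Nat.not_even_iff_odd.mpr hqodd ((Nat.even_pow' hn).mpr even_two)
  have hq1 : 1 < q := (UnitaryBasic.frob_exists hf.hF).1
  have hmod : q % 4 = 1 ∨ q % 4 = 3 := by omega
  have hindex_odd : Odd (Subgroup.centralizer ({f zT} : Set G)).index := by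
    rw [Nat.odd_iff, ← Nat.two_dvd_ne_zero]
    exact fun h => S.not_dvd_index (h.trans (Subgroup.index_dvd_of_le fun s hs =>
      Subgroup.mem_centralizer_singleton_iff.mpr (hzc s hs)))
  have hshape : Cfsg.IsQuasiDihedral (S : Subgroup G) ∨ Cfsg.IsWreathed (S : Subgroup G) :=
    hmod.elim (fun h => Or.inl (hQD h)) (fun h => Or.inr (hW h).1)
  have hnotW : Cfsg.IsQuasiDihedral (S : Subgroup G) → ¬ Cfsg.IsWreathed (S : Subgroup G) := fun h => by
    obtain ⟨m, -, hcard, x, y, hx, -⟩ := h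
    exact CfsgLib.AlmostCyclic.not_wreathed ⟨x, by rw [hcard, hx, pow_succ']⟩
  haveI hpf : Fact p.Prime := hp
  haveI : Fintype (GaloisField p n) := Fintype.ofFinite _
  have hK : Fintype.card (GaloisField p n) = p ^ n := by
    rw [← Nat.card_eq_fintype_card, GaloisField.card p n hn]
  obtain ⟨Ω, hΩ, D, hD, hDq, hu, -, hcase⟩ := CfsgLib.BrauerOrder.exists_sys hf.not_comm S hshape (f zT)
    (orderOf_eq_prime (by rw [pow_two, hf.fzT_sq]) hf.fzT_ne) htS hzc (fourGU f zT uT) hUS hf.four_klein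
    (fun hw => hmod.elim (fun h => absurd hw (hnotW (hQD h))) fun h => (hW h).2)
    hp2 n (Nat.one_le_iff_ne_zero.mpr hn) (GaloisField p n) hK
    (hf.sl_normal (GaloisField p n) (hK.trans hq.symm))
  letI := hΩ
  have hcardΩ : Nat.card Ω = q + 1 := by rw [hD.core.card, hDq, hq]
  haveI : Finite Ω := Nat.finite_of_card_ne_zero (by omega)
  -- the orbit count on the two tori
  have horb : ∀ b, ((D.core.Z.subgroupOf (D.core.T b)).index : ℤ) ∣ (q : ℤ) - D.core.σ b := by
    intro b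
    have h := CfsgLib.GL2Cent.dvd_of_fixed (A := D.core.T b) (Ω := Ω) (D.core.Z.subgroupOf (D.core.T b))
      (fun u hu a => hD.core.ztriv _ hu a) (c := 1 + D.core.σ b)
      (fun t ht => hD.core.fix b t t.2 ht)
    rw [hcardΩ] at h
    rwa [show ((q + 1 : ℕ) : ℤ) - (1 + D.core.σ b) = (q : ℤ) - D.core.σ b by push_cast; ring] at h
  have hindex : (D.core.Z.subgroupOf (D.core.T true)).index = Nat.card D.core.Z := by
    have h := (D.core.Z.subgroupOf (D.core.T true)).card_mul_index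
    rw [Nat.card_congr (Subgroup.subgroupOfEquivOfLe (hD.core.zle true)).toEquiv, hD.cardU, pow_two] at h
    exact Nat.eq_of_mul_eq_mul_left Nat.card_pos h
  have hσ : D.core.σ true = -1 := by
    rcases hD.core.sgn true with e | e
    swap
    · exact e
    exfalso
    rcases hcase with ⟨hq', hZ⟩ | ⟨hw, hZ⟩
    · have h1 : q % 4 = 1 := hmod.resolve_right fun h => hnotW hq' (hW h).1
      obtain ⟨b, x, h, hrot⟩ := hD.rot
      obtain ⟨a, ha⟩ := hrot.hpow
      haveI : ((D.core.Z.subgroupOf (D.core.T b))).Normal :=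
        ⟨fun y hy g => by
          rw [show g * y * g⁻¹ = y from Subtype.ext (by
            show (g : ↥(Subgroup.centralizer ({f zT} : Set G))) * y * (g : ↥(Subgroup.centralizer ({f zT} : Set G)))⁻¹ = y
            rw [hD.core.tcomm b _ g.2 _ y.2, mul_inv_cancel_right])]
          exact hy⟩
      have hord : orderOf (QuotientGroup.mk' (D.core.Z.subgroupOf (D.core.T b)) ⟨x, hrot.xmem⟩) = 2 * h := by
        have hpos : 0 < 2 * h := by rw [ha]; positivity
        refine (orderOf_eq_iff hpos).mpr ⟨?_, fun i hi hi0 => ?_⟩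
        · rw [← map_pow]; exact (QuotientGroup.eq_one_iff _).mpr hrot.xpow
        · rw [← map_pow]; exact fun hc => hrot.xlow i hi0 hi ((QuotientGroup.eq_one_iff ((⟨x, hrot.xmem⟩ : D.core.T b) ^ i)).mp hc)
      have h4 : (4 : ℕ) ∣ (D.core.Z.subgroupOf (D.core.T b)).index := by
        refine (Dvd.intro (2 ^ a) ?_ : 4 ∣ 2 * h).trans (hord ▸ orderOf_dvd_natCard _)
        rw [ha, pow_succ]; ring
      cases b
      · have h' := (Int.natCast_dvd_natCast.mpr h4).trans (horb false)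
        rw [hD.core.sgnne, e] at h'
        omega
      · rw [hindex, hZ] at h4
        omega
    · have h3 : q % 4 = 3 := hmod.resolve_left fun h => hnotW (hQD h) hw
      have h' := horb true
      rw [hindex, e] at h'
      obtain ⟨k, hk⟩ := IsPGroup.iff_card.mp ((D.core.S.2.to_le ((hD.core.zle true).trans (hD.core.tle true))))
      have h4 : 4 ∣ Nat.card D.core.Z := by
        rw [hk] at hZ ⊢
        refine (pow_dvd_pow 2 (?_ : 2 ≤ k) : 2 ^ 2 ∣ 2 ^ k)
        by_contra hlt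
        have := Nat.pow_le_pow_right two_pos (show k ≤ 1 by omega)
        omega
      have h'' := (Int.natCast_dvd_natCast.mpr h4).trans h'
      omega
  have hQ : D.Q = -(q : ℤ) := by
    rw [CfsgLib.BrauerOrder.Sys.Q, hσ, hDq, hq]; push_cast; ring
  set M : ℕ := (Subgroup.centralizer ({f zT} : Set G)).index with hMd
  set zk : ℕ := Nat.card f.ker
  have hG : (Nat.card G : ℤ) = (Nat.card (CfsgLib.BrauerOrder.Cz (f zT)) : ℤ) * (M : ℤ) := by
    rw [hMd, ← Nat.cast_mul, Subgroup.card_mul_index]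
  have hC := congrArg (fun m : ℕ => (m : ℤ)) hf.card_cent
  have hT := congrArg (fun m : ℕ => (m : ℤ)) hf.card_four
  push_cast [Nat.cast_sub (show 1 ≤ q ^ 2 from Nat.one_le_pow _ _ (by omega))] at hC hT
  set c : ℤ := (Nat.card (CfsgLib.BrauerOrder.Cz (f zT)) : ℤ) with hcd
  set h : ℤ := (Nat.card ↥(Subgroup.centralizer (fourGU f zT uT : Set G)) : ℤ) with hhd
  have hu' : (Nat.card (Subgroup.centralizer ({(D.w : G), f zT} : Set G)) : ℤ) = h := by rw [hhd, hu]
  have hq0 : (q : ℤ) ≠ 0 := by omega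
  have hc0 : c ≠ 0 := by simp [c]
  have hp4 : ((q : ℤ) + 1) ^ 4 ≠ 0 := pow_ne_zero 4 (by omega)
  have hm2 : ((q : ℤ) - 1) ^ 2 ≠ 0 := pow_ne_zero 2 (by omega)
  refine ⟨hindex_odd, fun h3 => ?_, fun h1 => ?_⟩
  · have hW' := hcase.resolve_left fun h => hnotW h.1 (hW h3).1
    have key := CfsgLib.BrauerOrder.order_wreathed hD hW'.2
    rw [hu', hQ, hG] at key
    have key' : (M : ℤ) * h ^ 2 * ((q : ℤ) - 1) ^ 2 = c ^ 2 * ((q : ℤ) ^ 2 - q + 1) :=
      mul_left_cancel₀ hc0 (by linear_combination key)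
    have goal : (M : ℤ) = (q : ℤ) ^ 2 * ((q : ℤ) ^ 2 - q + 1) := by
      refine mul_left_cancel₀ (mul_ne_zero hp4 hm2) ?_
      linear_combination (zk : ℤ) ^ 2 * key'
        + ((q : ℤ) ^ 2 - q + 1) * (c * zk + q * (((q : ℤ) + 1) * ((q : ℤ) ^ 2 - 1))) * hC
        - M * ((q : ℤ) - 1) ^ 2 * (h * zk + ((q : ℤ) + 1) ^ 2) * hT
    apply Int.natCast_inj.mp
    rw [goal]
    push_cast [Nat.cast_sub (show q ≤ q ^ 2 from Nat.le_self_pow two_ne_zero q)]
    ring
  · have hQ' := hcase.resolve_right fun h => hnotW (hQD h1) h.1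
    obtain ⟨B, C, hB, hB1, -, -, hCB, key, -⟩ := CfsgLib.BrauerOrder.data_qd hD hQ'.2
    rw [hu', hQ, hG] at key
    rw [hQ] at hCB
    refine ⟨B, C, hB, hB1, by linear_combination hCB, ?_⟩
    have key' : c ^ 2 * ((1 - (q : ℤ)) * B * (B - 1)) = M * h ^ 2 * (-(q : ℤ) * (B - q) ^ 2) :=
      mul_left_cancel₀ hc0 (by linear_combination key)
    refine mul_left_cancel₀ (mul_ne_zero hp4 hq0) ?_
    linear_combination (zk : ℤ) ^ 2 * key'
      + ((q : ℤ) - 1) * B * (B - 1) * (c * zk + q * (((q : ℤ) + 1) * ((q : ℤ) ^ 2 - 1))) * hC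
      - M * q * (B - q) ^ 2 * (h * zk + ((q : ℤ) + 1) ^ 2) * hT

end GUHyp

end CfsgLib.GU2Cent
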