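import Cfsg.Agent.Lib.GU2Cent.Local

/-!
The Sylow `2`-subgroup of a group with an involution centraliser `GU₂(q)/Z`.
-/

set_option autoImplicit false
set_option linter.unusedSectionVars false
set_option linter.style.haveILetI false

namespace CfsgLib.GU2Cent

open Matrix CfsgLib.GUTwoSylow

universe u v

variable {G : Type u} [Group G] {F : Type v} [Field F] [Fintype F] {q : ℕ}

namespace GUHyp

variable {f : ↥(Cfsg.GU 2 F q) →* G} {zT uT : Cfsg.GU 2 F q} (hf : GUHyp f zT uT)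
include hf

theorem sylow_mem {P : Sylow 2 (Cfsg.GU 2 F q)} {g : Cfsg.GU 2 F q} (hg : g * g = 1)
    (hc : ∀ p ∈ (P : Subgroup (Cfsg.GU 2 F q)), g * p = p * g) : g ∈ (P : Subgroup (Cfsg.GU 2 F q)) := by
  haveI : Fact (Nat.Prime 2) := ⟨Nat.prime_two⟩
  have hp : IsPGroup 2 (Subgroup.zpowers g) := fun x => ⟨1, by
    obtain ⟨k, hk⟩ := Subgroup.mem_zpowers_iff.mp x.2
    refine Subtype.ext ?_
    rw [Subgroup.coe_pow, pow_one, OneMemClass.coe_one, ← hk, ← zpow_natCast, ← _root_.zpow_mul, mul_comm, _root_.zpow_mul,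
      zpow_natCast, pow_two, hg, _root_.one_zpow]⟩
  have hn : Subgroup.zpowers g ≤ Subgroup.normalizer (P : Set (Cfsg.GU 2 F q)) := by
    rw [Subgroup.zpowers_le]
    refine Subgroup.mem_normalizer_iff.mpr fun p => ⟨fun h => ?_, fun h => ?_⟩
    · rw [hc p h, mul_inv_cancel_right]; exact h
    · have := hc _ h
      rw [show g * p * g⁻¹ * g = g * p by group] at this
      rw [mul_left_cancel this] at h
      exact h
  have h := hp.inf_normalizer_sylow P
  rw [inf_eq_left.mpr hn] at h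
  exact (inf_eq_left.mp h.symm) (Subgroup.mem_zpowers g)

/-- A Sylow subgroup of `GU₂` with the properties needed. -/
theorem exists_pair : ∃ P : Sylow 2 (Cfsg.GU 2 F q), zT ∈ (P : Subgroup (Cfsg.GU 2 F q)) ∧
    uT ∈ (P : Subgroup (Cfsg.GU 2 F q)) ∧
    (∀ g ∈ (P : Subgroup (Cfsg.GU 2 F q)), g * g = 1 →
      (∀ p ∈ (P : Subgroup (Cfsg.GU 2 F q)), g * p = p * g) → g = 1 ∨ g = zT) ∧
    (q % 4 = 1 → Cfsg.IsQuasiDihedral (P : Subgroup (Cfsg.GU 2 F q))) ∧
    (q % 4 = 3 → Cfsg.IsWreathed (P : Subgroup (Cfsg.GU 2 F q)) ∧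
      ∀ p ∈ (P : Subgroup (Cfsg.GU 2 F q)), p * uT * p⁻¹ = uT ∨ p * uT * p⁻¹ = zT * uT) := by
  have hmod : q % 4 = 1 ∨ q % 4 = 3 := by have := hf.hodd; rw [Nat.odd_iff] at this; omega
  -- a diagonal element whose square is one and whose entries agree
  have hscal : ∀ g : Cfsg.GU 2 F q, g.1.1 0 1 = 0 → g.1.1 1 0 = 0 → g.1.1 0 0 = g.1.1 1 1 → g * g = 1 →
      g = 1 ∨ g = zT := by
    intro g h1 h2 h3 hg
    have e : g.1.1 0 0 * g.1.1 0 0 = 1 := by
      have := congrArg (fun x : Cfsg.GU 2 F q => x.1.1 0 0) hg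
      simpa [Matrix.mul_apply, Fin.sum_univ_two, h1, h2] using this
    rcases mul_self_eq_one_iff.mp e with h | h
    · refine Or.inl (Subtype.ext (Units.ext ?_))
      ext i j; fin_cases i <;> fin_cases j <;> simp [h1, h2, ← h3, h]
    · refine Or.inr (Subtype.ext (Units.ext ?_))
      rw [hf.zT_val]
      ext i j; fin_cases i <;> fin_cases j <;> simp [h1, h2, ← h3, h]
  rcases hmod with h4 | h4
  · obtain ⟨P, d, l, n, a, ha, h2, hn, hM, hcard, haq, hl, ⟨r, hr, hqr⟩, hx, hy⟩ := exists_quasiDihedral hf.hF h4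
    have hu : uT = (d.y : Cfsg.GU 2 F q) := Subtype.ext (hf.uval.trans hy.symm)
    have hzP := hf.sylow_mem (P := P) hf.zT_sq fun p _ => (hf.zT_comm p).symm
    refine ⟨P, hzP, hu ▸ d.y.2, fun g hg hgg hc => ?_, fun _ => isQuasiDihedral_of_data d hn hM hcard,
      fun h => absurd h (by omega)⟩
    obtain ⟨h1, h1'⟩ := hf.uT_comm.mp (hu ▸ hc _ d.y.2)
    refine hscal g h1 h1' ?_ hgg
    have e := congrArg (fun x : Cfsg.GU 2 F q => x.1.1 0 1) (hc _ d.x.2)
    simp only [Subgroup.coe_mul, Units.val_mul, Matrix.mul_apply, Fin.sum_univ_two, hx, h1, h1', zero_mul, add_zero,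
      mul_zero, zero_add] at e
    have hne : (torusHom q ha h2 l : GL (Fin 2) F).1 0 1 ≠ 0 := by
      simp only [torusHom, MonoidHom.coe_mk, OneHom.coe_mk, torusM]
      simp [ha, h2, sub_eq_zero]
      intro hl'
      have hl2 : l ^ (q + 1) = 1 := by
        apply Units.ext
        rw [Units.val_pow_eq_pow_val, Units.val_one, pow_succ]
        nth_rw 2 [hl']
        exact mul_inv_cancel₀ (pow_ne_zero q l.ne_zero)
      have h8 := orderOf_dvd_of_pow_eq_one hl2
      rw [hl] at h8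
      obtain ⟨k, hk⟩ := (dvd_mul_right 8 d.M).trans h8
      omega
    exact mul_right_cancel₀ hne (by linear_combination e)
  · obtain ⟨P, d, ζ, n, hn, hh, hζ, hζq, hcard, hx, hy, hz⟩ := exists_wreathed hf.hF h4
    have hh2 := d.h2
    have hζh : ((ζ ^ d.h : Fˣ) : F) = -1 := by
      have h1 : ((ζ ^ d.h : Fˣ) : F) * ((ζ ^ d.h : Fˣ) : F) = 1 := by
        rw [← Units.val_mul, ← pow_add, show d.h + d.h = orderOf ζ by omega, pow_orderOf_eq_one, Units.val_one]
      refine (mul_self_eq_one_iff.mp h1).resolve_left fun h => ?_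
      have := Nat.le_of_dvd (by omega) (orderOf_dvd_of_pow_eq_one (Units.ext (h.trans Units.val_one.symm)))
      omega
    have hxv : ∀ k : ℕ, (((d.x ^ k : (P : Subgroup (Cfsg.GU 2 F q))) : Cfsg.GU 2 F q) : GL (Fin 2) F) =
        diagHom (ζ ^ k, 1) := fun k => by
      rw [Subgroup.coe_pow, Subgroup.coe_pow, hx, ← map_pow]; simp
    have hyv : ∀ k : ℕ, (((d.y ^ k : (P : Subgroup (Cfsg.GU 2 F q))) : Cfsg.GU 2 F q) : GL (Fin 2) F) =
        diagHom (1, ζ ^ k) := fun k => by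
      rw [Subgroup.coe_pow, Subgroup.coe_pow, hy, ← map_pow]; simp
    have hu : uT = ((d.y ^ d.h : (P : Subgroup (Cfsg.GU 2 F q))) : Cfsg.GU 2 F q) := by
      refine Subtype.ext (Units.ext ?_)
      rw [hf.uT_val, hyv, diagHom_val]
      ext i j; fin_cases i <;> fin_cases j <;> simp [hζh]
    have hzP := hf.sylow_mem (P := P) hf.zT_sq fun p _ => (hf.zT_comm p).symm
    refine ⟨P, hzP, hu ▸ (d.y ^ d.h).2, fun g hg hgg hc => ?_, fun h => absurd h (by omega), fun _ => ?_⟩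
    · obtain ⟨h1, h1'⟩ := hf.uT_comm.mp (hu ▸ hc _ (d.y ^ d.h).2)
      refine hscal g h1 h1' ?_ hgg
      have e := congrArg (fun x : Cfsg.GU 2 F q => x.1.1 0 1) (hc _ d.z.2)
      simp only [Subgroup.coe_mul, Units.val_mul, Matrix.mul_apply, Fin.sum_univ_two, hz, h1, h1'] at e
      simpa [swapM] using e
    refine ⟨isWreathed_of_data d hn hh hcard, fun p hp => ?_⟩
    have key : ∀ i j : ℤ, d.u i j * d.y ^ d.h * (d.u i j)⁻¹ = d.y ^ d.h := fun i j => by
      rw [show d.y ^ d.h = d.u 0 d.h by simp [Wr.Data.u], Wr.u_inv, Wr.u_mul_u, Wr.u_mul_u]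
      congr 1 <;> ring
    obtain ⟨i, j, e | e⟩ := Wr.cases_elem d ⟨p, hp⟩
    · refine Or.inl ?_
      have h := congrArg Subtype.val (key i j)
      rw [← e] at h
      rw [hu]
      exact h
    · refine Or.inr ?_
      have h' : d.v i j * d.y ^ d.h * (d.v i j)⁻¹ = d.x ^ d.h := by
        rw [show d.y ^ d.h = d.u 0 d.h by simp [Wr.Data.u], Wr.conj_u_by_v]
        simp [Wr.Data.u]
      have h := congrArg Subtype.val h'
      rw [← e] at h
      rw [hu]
      refine h.trans (Subtype.ext (Units.ext ?_))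
      show (((d.x ^ d.h : (P : Subgroup (Cfsg.GU 2 F q))) : Cfsg.GU 2 F q)).1.1 =
        zT.1.1 * ((d.y ^ d.h : (P : Subgroup (Cfsg.GU 2 F q))) : Cfsg.GU 2 F q).1.1
      rw [hxv, hyv, hf.zT_val, diagHom_val, diagHom_val]
      ext a b; fin_cases a <;> fin_cases b <;> simp [hζh]

variable [Finite G]

/-- The Sylow data. -/
theorem sylow_data : ∃ S : Sylow 2 G, (∀ s ∈ (S : Subgroup G), s * f zT = f zT * s) ∧ f zT ∈ S ∧
    fourGU f zT uT ≤ S ∧
    (q % 4 = 1 → Cfsg.IsQuasiDihedral (S : Subgroup G)) ∧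
    (q % 4 = 3 → Cfsg.IsWreathed (S : Subgroup G) ∧
      ∀ s ∈ (S : Subgroup G), ∀ x ∈ fourGU f zT uT, s * x * s⁻¹ ∈ fourGU f zT uT) := by
  haveI : Fact (Nat.Prime 2) := ⟨Nat.prime_two⟩
  obtain ⟨P, hzP, huP, hcen, hQD, hW⟩ := hf.exists_pair
  set S0 := (P : Subgroup (Cfsg.GU 2 F q)).map f with hS0
  have hinj : Function.Injective (f.subgroupMap (P : Subgroup (Cfsg.GU 2 F q))) := by
    refine (injective_iff_map_eq_one _).mpr fun x hx => ?_
    have hx' : (x : Cfsg.GU 2 F q) ∈ f.ker := f.mem_ker.mpr (congrArg Subtype.val hx)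
    obtain ⟨k, hk⟩ := IsPGroup.iff_orderOf.mp P.2 x
    have h1 := Subgroup.orderOf_dvd_natCard _ hx'
    rw [Subgroup.orderOf_coe, hk] at h1
    refine orderOf_eq_one_iff.mp (hk.trans ?_)
    exact Nat.eq_one_of_dvd_coprimes ((Nat.coprime_two_left.mpr hf.kero).pow_left k) dvd_rfl h1
  obtain ⟨Q, hQ⟩ := (P.2.map f : IsPGroup 2 S0).exists_le_sylow
  have hzQ : f zT ∈ (Q : Subgroup G) := hQ ⟨zT, hzP, rfl⟩
  haveI : Nontrivial (Q : Subgroup G) := ⟨⟨⟨_, hzQ⟩, 1, fun e => hf.fzT_ne (congrArg Subtype.val e)⟩⟩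
  haveI := Q.2.center_nontrivial
  obtain ⟨z, hz⟩ := exists_prime_orderOf_dvd_card' (G := Subgroup.center (Q : Subgroup G)) 2 (by
    obtain ⟨e, he⟩ := IsPGroup.iff_card.mp (Q.2.to_subgroup (Subgroup.center (Q : Subgroup G)))
    rw [he]
    refine dvd_pow_self 2 fun e0 => ?_
    rw [e0, pow_zero] at he
    exact not_subsingleton _ ((Nat.card_eq_one_iff_unique.mp he).1))
  set z' : G := ((z : (Q : Subgroup G)) : G)
  have hzc : ∀ s ∈ (Q : Subgroup G), s * z' = z' * s := fun s hs =>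
    congrArg Subtype.val (Subgroup.mem_center_iff.mp z.2 ⟨s, hs⟩)
  have hzz : z' * z' = 1 := by
    have := pow_orderOf_eq_one z
    rw [hz, pow_two] at this
    exact congrArg (fun y : Subgroup.center (Q : Subgroup G) => ((y : (Q : Subgroup G)) : G)) this
  have hz1 : z' ≠ 1 := fun e => by
    rw [show z = 1 from Subtype.ext (Subtype.ext e), orderOf_one] at hz
    omega
  have hzeq : z' = f zT := by
    obtain ⟨g, hg⟩ := hf.mem_range.mpr (hzc _ hzQ).symm
    -- a preimage squaring to one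
    have hk : g * g ∈ f.ker := f.mem_ker.mpr (by rw [map_mul, hg, hzz])
    obtain ⟨k, hk'⟩ := hf.kero
    have hp : (g * g) ^ (2 * k + 1) = 1 := by
      rw [← hk']; exact Subtype.mk_eq_mk.mp (pow_card_eq_one' (x := (⟨g * g, hk⟩ : f.ker)))
    obtain ⟨g', hg', hg'2⟩ : ∃ g', f g' = z' ∧ g' * g' = 1 := by
      refine ⟨g * (g * g) ^ k, by rw [map_mul, map_pow, map_mul, hg, hzz, one_pow, mul_one], ?_⟩
      rw [← pow_two g, ← pow_mul, ← pow_succ', ← pow_add]
      rw [← pow_two g, ← pow_mul] at hp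
      rw [show 2 * k + 1 + (2 * k + 1) = 2 * (2 * k + 1) by ring]
      exact hp
    have hcP : ∀ p ∈ (P : Subgroup (Cfsg.GU 2 F q)), g' * p = p * g' := fun p hp' =>
      ((hf.comm_iff hg'2).mp (by rw [hg']; exact hzc _ (hQ ⟨p, hp', rfl⟩))).symm
    rcases hcen g' (hf.sylow_mem hg'2 hcP) hg'2 hcP with h | h
    · exact absurd (by rw [← hg', h, map_one]) hz1
    · rw [← hg', h]
  have hle : (Q : Subgroup G) ≤ f.range := fun s hs => hf.mem_range.mpr (hzeq ▸ hzc s hs)
  have hQeq : S0 = (Q : Subgroup G) := by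
    refine Subgroup.eq_of_le_of_card_ge hQ ?_
    have hd2 : Nat.card (Q : Subgroup G) ∣ Nat.card (Cfsg.GU 2 F q) := by
      rw [← f.ker.card_mul_index, Subgroup.index_ker]
      exact (Subgroup.card_dvd_of_le hle).mul_left _
    obtain ⟨k, hk⟩ := IsPGroup.iff_card.mp Q.2
    rw [hk, ← Nat.card_congr (Equiv.ofBijective _ ⟨hinj, f.subgroupMap_surjective _⟩), P.card_eq_multiplicity]
    rw [hk] at hd2
    exact Nat.pow_le_pow_right two_pos ((Nat.prime_two.pow_dvd_iff_le_factorization Nat.card_pos.ne').mp hd2)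
  let eqv := (MulEquiv.ofBijective (f.subgroupMap (P : Subgroup (Cfsg.GU 2 F q)))
    ⟨hinj, f.subgroupMap_surjective _⟩).trans (MulEquiv.subgroupCongr hQeq)
  refine ⟨Q, fun s hs => hf.mem_range.mp (hle hs), hzQ, ?_, fun h => GLTwoSylow.isQuasiDihedral_congr eqv (hQD h),
    fun h => ⟨GLTwoSylow.isWreathed_congr eqv (hW h).1, ?_⟩⟩
  · refine (Subgroup.closure_le _).mpr ?_
    rintro x (rfl | rfl)
    · exact hzQ
    · exact hQ ⟨uT, huP, rfl⟩
  · intro s hs x hx
    rw [← hQeq] at hs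
    obtain ⟨m, hm, rfl⟩ := hs
    have hmz : f m * f zT * (f m)⁻¹ = f zT := by rw [← map_mul, hf.zT_comm m, map_mul]; group
    have hmu : f m * f uT * (f m)⁻¹ = f uT ∨ f m * f uT * (f m)⁻¹ = f zT * f uT := by
      rcases (hW h).2 m hm with e | e
      · left; rw [← map_inv, ← map_mul, ← map_mul, e]
      · right; rw [← map_inv, ← map_mul, ← map_mul, e, map_mul]
    induction hx using Subgroup.closure_induction with
    | mem y hy =>
      rcases hy with rfl | rfl
      · rw [hmz]; exact hf.mem_four.mpr (by simp)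
      · rcases hmu with e | e <;> rw [e] <;> exact hf.mem_four.mpr (by simp)
    | one => simp
    | mul a b _ _ ha hb =>
      rw [show f m * (a * b) * (f m)⁻¹ = f m * a * (f m)⁻¹ * (f m * b * (f m)⁻¹) by group]
      exact mul_mem ha hb
    | inv a _ ha =>
      rw [show f m * a⁻¹ * (f m)⁻¹ = (f m * a * (f m)⁻¹)⁻¹ by group]
      exact inv_mem ha

end GUHyp

end CfsgLib.GU2Cent
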